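import Mathlib.Algebra.Lie.Basic
import Mathlib.Algebra.Group.Subgroup.Lattice
import Mathlib.Algebra.Group.Subgroup.Pointwise
import Mathlib.Algebra.Group.Subgroup.Finite
import Mathlib.Data.Fintype.Card
import Mathlib.Tactic.Abel
import Mathlib.Tactic.Ring

/-!
# Solubility and finitely many nil pieces give nilpotent action

If a soluble family of brackets is spanned at each derived level by boundedly many pieces, each
killing everything after boundedly many brackets, then it acts nilpotently with a bounded index.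
-/

set_option autoImplicit false

namespace CfsgLib.CoprimeClass

variable {L : Type*} [LieRing L]

/-- The span of the brackets of two additive subgroups. -/
def brk (V A : AddSubgroup L) : AddSubgroup L :=
  AddSubgroup.closure {w | ∃ v ∈ V, ∃ a ∈ A, ⁅v, a⁆ = w}

theorem lie_mem_brk {V A : AddSubgroup L} {v a : L} (hv : v ∈ V) (ha : a ∈ A) : ⁅v, a⁆ ∈ brk V A :=
  AddSubgroup.subset_closure ⟨v, hv, a, ha, rfl⟩

theorem brk_le {V A T : AddSubgroup L} (h : ∀ v ∈ V, ∀ a ∈ A, ⁅v, a⁆ ∈ T) : brk V A ≤ T := by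
  rw [brk, AddSubgroup.closure_le]
  rintro _ ⟨v, hv, a, ha, rfl⟩
  exact h v hv a ha

theorem brk_mono {V V' A A' : AddSubgroup L} (h1 : V ≤ V') (h2 : A ≤ A') : brk V A ≤ brk V' A' :=
  brk_le fun _ hv _ ha => lie_mem_brk (h1 hv) (h2 ha)

theorem brk_bot_left (A : AddSubgroup L) : brk ⊥ A = ⊥ :=
  le_bot_iff.mp (brk_le fun v hv a _ => by
    rw [AddSubgroup.mem_bot] at hv ⊢; rw [hv, zero_lie])

theorem brk_bot_right (V : AddSubgroup L) : brk V ⊥ = ⊥ :=
  le_bot_iff.mp (brk_le fun v _ a ha => by
    rw [AddSubgroup.mem_bot] at ha ⊢; rw [ha, lie_zero])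

theorem brk_sup_left (V V' A : AddSubgroup L) : brk (V ⊔ V') A ≤ brk V A ⊔ brk V' A :=
  brk_le fun v hv a ha => by
    obtain ⟨x, hx, y, hy, rfl⟩ := AddSubgroup.mem_sup.mp hv
    rw [add_lie]
    exact add_mem (AddSubgroup.mem_sup_left (lie_mem_brk hx ha))
      (AddSubgroup.mem_sup_right (lie_mem_brk hy ha))

theorem brk_sup_right (V A A' : AddSubgroup L) : brk V (A ⊔ A') ≤ brk V A ⊔ brk V A' :=
  brk_le fun v hv a ha => by
    obtain ⟨x, hx, y, hy, rfl⟩ := AddSubgroup.mem_sup.mp ha
    rw [lie_add]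
    exact add_mem (AddSubgroup.mem_sup_left (lie_mem_brk hv hx))
      (AddSubgroup.mem_sup_right (lie_mem_brk hv hy))

theorem brk_iSup_left {ι : Sort*} (V : ι → AddSubgroup L) (A : AddSubgroup L) :
    brk (⨆ i, V i) A ≤ ⨆ i, brk (V i) A :=
  brk_le fun v hv a ha => by
    induction hv using AddSubgroup.iSup_induction' with
    | hp i x hx => exact AddSubgroup.mem_iSup_of_mem i (lie_mem_brk hx ha)
    | h1 => rw [zero_lie]; exact zero_mem _
    | hadd x y _ _ hx hy => rw [add_lie]; exact add_mem hx hy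

/-- Brackets iterated with the same subgroup. -/
def iterB (A V : AddSubgroup L) : ℕ → AddSubgroup L
  | 0 => V
  | n + 1 => brk (iterB A V n) A

theorem iterB_add (A V : AddSubgroup L) (m : ℕ) :
    ∀ n, iterB A V (m + n) = iterB A (iterB A V m) n
  | 0 => rfl
  | n + 1 => by
    show brk (iterB A V (m + n)) A = _
    rw [iterB_add A V m n]
    rfl

theorem iterB_mono {A A' V V' : AddSubgroup L} (h1 : A ≤ A') (h2 : V ≤ V') :
    ∀ n, iterB A V n ≤ iterB A' V' n
  | 0 => h2
  | n + 1 => brk_mono (iterB_mono h1 h2 n) h1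

theorem iterB_bot_right (A : AddSubgroup L) : ∀ n, iterB A (⊥ : AddSubgroup L) n = ⊥
  | 0 => rfl
  | n + 1 => by
    show brk (iterB A ⊥ n) A = ⊥
    rw [iterB_bot_right A n, brk_bot_left]

theorem iterB_eq_bot_of_le {A V : AddSubgroup L} {m n : ℕ} (h : m ≤ n) (hm : iterB A V m = ⊥) :
    iterB A V n = ⊥ := by
  obtain ⟨k, rfl⟩ := Nat.exists_eq_add_of_le h
  rw [iterB_add, hm, iterB_bot_right]

/-- `P` is mapped into itself by brackets with `A`. -/
def Stable (A P : AddSubgroup L) : Prop := brk P A ≤ P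

theorem Stable.mono {A A' P : AddSubgroup L} (h : Stable A P) (hA : A' ≤ A) : Stable A' P :=
  (brk_mono le_rfl hA).trans h

theorem Stable.iterB_le {A P : AddSubgroup L} (h : Stable A P) : ∀ n, iterB A P n ≤ P
  | 0 => le_rfl
  | n + 1 => (brk_mono (h.iterB_le n) le_rfl).trans h

theorem iterB_sup_le {A V P : AddSubgroup L} (h : Stable A P) :
    ∀ n, iterB A (V ⊔ P) n ≤ iterB A V n ⊔ P
  | 0 => le_rfl
  | n + 1 => ((brk_mono (iterB_sup_le h n) le_rfl).trans (brk_sup_left _ _ _)).trans
      (sup_le_sup_left h _)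

/-- Brackets with `B` pass through brackets with `A`, up to `P'`. -/
theorem brk_iterB_le {A B P P' X : AddSubgroup L} (hA : Stable A P) (hA' : Stable A P')
    (hcomm : ∀ v ∈ P, ∀ a ∈ A, ∀ b ∈ B, ⁅v, ⁅a, b⁆⁆ ∈ P') (hX : X ≤ P) :
    ∀ i, brk (iterB A X i) B ≤ iterB A (brk X B) i ⊔ P'
  | 0 => le_sup_left
  | i + 1 => by
    refine brk_le fun w hw b hb => ?_
    induction hw using AddSubgroup.closure_induction with
    | zero => rw [zero_lie]; exact zero_mem _
    | add x y _ _ hx hy => rw [add_lie]; exact add_mem hx hy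
    | neg x _ hx => rw [neg_lie]; exact neg_mem hx
    | mem z hz =>
      obtain ⟨v, hv, a, ha, rfl⟩ := hz
      have hvP : v ∈ P := ((iterB_mono le_rfl hX i).trans (hA.iterB_le i)) hv
      have he : ⁅⁅v, a⁆, b⁆ = ⁅⁅v, b⁆, a⁆ + ⁅v, ⁅a, b⁆⁆ := by
        rw [leibniz_lie v a b, ← lie_skew ⁅v, b⁆ a]
        abel
      rw [he]
      refine add_mem ?_ (AddSubgroup.mem_sup_right (hcomm v hvP a ha b hb))
      obtain ⟨x, hx, y, hy, hxy⟩ := AddSubgroup.mem_sup.mp
        (brk_iterB_le hA hA' hcomm hX i (lie_mem_brk hv hb))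
      rw [← hxy, add_lie]
      exact add_mem (AddSubgroup.mem_sup_left (lie_mem_brk hx ha))
        (AddSubgroup.mem_sup_right (hA' (lie_mem_brk hy ha)))

/-- Two nil pieces commuting modulo `P'` add up. -/
theorem iterB_sup_of_commute {A B P P' : AddSubgroup L} (hA : Stable A P) (hB : Stable B P)
    (hA' : Stable A P') (hB' : Stable B P')
    (hcomm : ∀ v ∈ P, ∀ a ∈ A, ∀ b ∈ B, ⁅v, ⁅a, b⁆⁆ ∈ P') {a b : ℕ}
    (ha : iterB A P a ≤ P') (hb : iterB B P b ≤ P') : iterB (A ⊔ B) P (a + b) ≤ P' := by
  set T : ℕ → ℕ → AddSubgroup L := fun i j => iterB A (iterB B P j) i with hT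
  have key : ∀ n, iterB (A ⊔ B) P n ≤ (⨆ i ∈ Finset.range (n + 1), T i (n - i)) ⊔ P' := by
    intro n
    induction n with
    | zero => exact le_trans (le_iSup₂_of_le 0 (by simp) le_rfl) le_sup_left
    | succ n ih =>
      refine ((brk_mono ih le_rfl).trans (brk_sup_left _ _ _)).trans (sup_le ?_ ?_)
      · refine (brk_iSup_left _ _).trans (iSup_le fun i => (brk_iSup_left _ _).trans
          (iSup_le fun hi => (brk_sup_right _ _ _).trans (sup_le ?_ ?_)))
        · refine le_trans ?_ le_sup_left
          refine le_iSup₂_of_le (i + 1) (by simp only [Finset.mem_range] at hi ⊢; omega) ?_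
          rw [Nat.succ_sub_succ]
          exact le_refl (T (i + 1) (n - i))
        · refine (brk_iterB_le hA hA' hcomm (hB.iterB_le _) i).trans (sup_le_sup_right ?_ P')
          have hi' : i ≤ n := by simp only [Finset.mem_range] at hi; omega
          refine le_iSup₂_of_le i (by simp only [Finset.mem_range]; omega) ?_
          rw [Nat.succ_sub hi']
          exact le_refl (T i (n - i + 1))
      · exact ((brk_sup_right _ _ _).trans (sup_le hA' hB')).trans le_sup_right
  refine (key (a + b)).trans (sup_le (iSup₂_le fun i hi => ?_) le_rfl)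
  by_cases hai : a ≤ i
  · obtain ⟨k, rfl⟩ := Nat.exists_eq_add_of_le hai
    show iterB A (iterB B P _) (a + k) ≤ P'
    rw [iterB_add]
    exact (iterB_mono le_rfl ((iterB_mono le_rfl (hB.iterB_le _) a).trans ha) k).trans
      (hA'.iterB_le k)
  · obtain ⟨k, hk⟩ := Nat.exists_eq_add_of_le (show b ≤ a + b - i by omega)
    show iterB A (iterB B P (a + b - i)) i ≤ P'
    rw [hk, iterB_add]
    exact (iterB_mono le_rfl ((iterB_mono le_rfl hb k).trans (hB'.iterB_le k)) i).trans
      (hA'.iterB_le i)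

theorem iterB_finset_sup {ι : Type*} (U : ι → AddSubgroup L) {P P' : AddSubgroup L} {m : ℕ}
    (F : Finset ι) (hP : ∀ i ∈ F, Stable (U i) P) (hP' : ∀ i ∈ F, Stable (U i) P')
    (hcomm : ∀ i ∈ F, ∀ j ∈ F, ∀ v ∈ P, ∀ a ∈ U i, ∀ b ∈ U j, ⁅v, ⁅a, b⁆⁆ ∈ P')
    (hU : ∀ i ∈ F, iterB (U i) P m ≤ P') : iterB (F.sup U) P (F.card * m + 1) ≤ P' := by
  classical
  induction F using Finset.induction_on with
  | empty => simp [iterB, brk_bot_right]
  | @insert i F hi ih =>
    have ih' := ih (fun j hj => hP j (Finset.mem_insert_of_mem hj))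
      (fun j hj => hP' j (Finset.mem_insert_of_mem hj))
      (fun j hj l hl => hcomm j (Finset.mem_insert_of_mem hj) l (Finset.mem_insert_of_mem hl))
      (fun j hj => hU j (Finset.mem_insert_of_mem hj))
    have hst : ∀ Q : AddSubgroup L, (∀ j ∈ F, Stable (U j) Q) → Stable (F.sup U) Q := by
      intro Q hQ
      refine Finset.sup_induction (p := fun A => Stable A Q) ?_ ?_ hQ
      · show brk Q ⊥ ≤ Q
        rw [brk_bot_right]; exact bot_le
      · exact fun A hA B hB => (brk_sup_right _ _ _).trans (sup_le hA hB)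
    rw [Finset.sup_insert, Finset.card_insert_of_notMem hi,
      show (F.card + 1) * m + 1 = m + (F.card * m + 1) by ring]
    refine iterB_sup_of_commute (hP i (Finset.mem_insert_self i F))
      (hst P fun j hj => hP j (Finset.mem_insert_of_mem hj)) (hP' i (Finset.mem_insert_self i F))
      (hst P' fun j hj => hP' j (Finset.mem_insert_of_mem hj)) ?_
      (hU i (Finset.mem_insert_self i F)) ih'
    intro v hv a ha b hb
    have hle : F.sup U ≤ ⨆ j : ↥F, U j :=
      Finset.sup_le fun j hj => le_iSup (fun j : ↥F => U j) ⟨j, hj⟩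
    have hb' := hle hb
    clear hb
    induction hb' using AddSubgroup.iSup_induction' with
    | hp j x hx =>
      exact hcomm i (Finset.mem_insert_self i F) j (Finset.mem_insert_of_mem j.2) v hv a ha x hx
    | h1 => rw [lie_zero, lie_zero]; exact zero_mem _
    | hadd x y _ _ hx hy => rw [lie_add, lie_add]; exact add_mem hx hy

/-- The derived series of an additive subgroup, by spans of brackets. -/
def dser (H : AddSubgroup L) : ℕ → AddSubgroup L
  | 0 => H
  | r + 1 => brk (dser H r) (dser H r)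

theorem dser_anti {H : AddSubgroup L} (hH : brk H H ≤ H) : ∀ r, dser H (r + 1) ≤ dser H r
  | 0 => hH
  | r + 1 => brk_mono (dser_anti hH r) (dser_anti hH r)

theorem dser_add (H : AddSubgroup L) (r : ℕ) : ∀ s, dser H (r + s) = dser (dser H r) s
  | 0 => rfl
  | s + 1 => by
    show brk (dser H (r + s)) (dser H (r + s)) = _
    rw [dser_add H r s]
    rfl

theorem dser_spanned {ι : Type*} (W : ι → AddSubgroup L) {H : AddSubgroup L} (hH : brk H H ≤ H)
    (hW : ∀ i j, ∃ l, brk (W i) (W j) ≤ W l) (h0 : H ≤ ⨆ i, H ⊓ W i) :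
    ∀ r, dser H r ≤ ⨆ i, dser H r ⊓ W i
  | 0 => h0
  | r + 1 => by
    refine brk_le fun v hv a ha => ?_
    have hv' := dser_spanned W hH hW h0 r hv
    have ha' := dser_spanned W hH hW h0 r ha
    induction hv' using AddSubgroup.iSup_induction' with
    | h1 => rw [zero_lie]; exact zero_mem _
    | hadd x y hx hy ihx ihy =>
      have hle : (⨆ i, dser H r ⊓ W i) ≤ dser H r := iSup_le fun i => inf_le_left
      rw [add_lie]
      exact add_mem (ihx (hle hx)) (ihy (hle hy))
    | hp i x hx =>
      induction ha' using AddSubgroup.iSup_induction' with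
      | h1 => rw [lie_zero]; exact zero_mem _
      | hadd b c hb hc ihb ihc =>
        have hle : (⨆ i, dser H r ⊓ W i) ≤ dser H r := iSup_le fun i => inf_le_left
        rw [lie_add]
        exact add_mem (ihb (hle hb)) (ihc (hle hc))
      | hp j b hb =>
        obtain ⟨l, hl⟩ := hW i j
        exact AddSubgroup.mem_iSup_of_mem l
          ⟨lie_mem_brk hx.1 hb.1, hl (lie_mem_brk hx.2 hb.2)⟩

/-- The bound for `soluble_spanned_iterB`. -/
def collectBound (t m : ℕ) : ℕ → ℕ
  | 0 => 1
  | n + 1 => collectBound t m n * (t * m + 1)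

/-- Soluble, spanned by boundedly many nil pieces at each level: nilpotent action. -/
theorem soluble_spanned_iterB {ι : Type*} [Fintype ι] (W : ι → AddSubgroup L) {m : ℕ}
    (hnil : ∀ i, iterB (W i) ⊤ m = ⊥) : ∀ (n : ℕ) (H : AddSubgroup L), brk H H ≤ H →
    (∀ r, dser H r ≤ ⨆ i, dser H r ⊓ W i) → dser H n = ⊥ →
    iterB H ⊤ (collectBound (Fintype.card ι) m n) = ⊥ := by
  intro n
  induction n with
  | zero =>
    intro H _ _ h
    rw [show dser H 0 = H from rfl] at h
    rw [h]
    exact brk_bot_right _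
  | succ n ih =>
    intro H hH hspan hn
    set A1 := brk H H with hA1
    have hd : ∀ r, dser A1 r = dser H (r + 1) := fun r => by
      rw [Nat.add_comm, dser_add]; rfl
    have hN := ih A1 (brk_mono hH hH) (fun r => by rw [hd]; exact hspan _) (by rw [hd]; exact hn)
    set N := collectBound (Fintype.card ι) m n with hN0
    set P : ℕ → AddSubgroup L := fun s => iterB A1 (⊤ : AddSubgroup L) s with hP
    have hstab : ∀ s, Stable H (P s) := by
      intro s
      induction s with
      | zero => exact le_top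
      | succ s ihs =>
        refine brk_le fun w hw x hx => ?_
        induction hw using AddSubgroup.closure_induction with
        | zero => rw [zero_lie]; exact zero_mem _
        | add u v _ _ hu hv => rw [add_lie]; exact add_mem hu hv
        | neg u _ hu => rw [neg_lie]; exact neg_mem hu
        | mem z hz =>
          obtain ⟨v, hv, a, ha, rfl⟩ := hz
          have he : ⁅⁅v, a⁆, x⁆ = ⁅⁅v, x⁆, a⁆ + ⁅v, ⁅a, x⁆⁆ := by
            rw [leibniz_lie v a x, ← lie_skew ⁅v, x⁆ a]
            abel
          rw [he]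
          exact add_mem (lie_mem_brk (ihs (lie_mem_brk hv hx)) ha)
            (lie_mem_brk hv (lie_mem_brk (hH ha) hx))
    set U : ι → AddSubgroup L := fun i => H ⊓ W i with hU
    have hstep : ∀ s, iterB H (P s) (Fintype.card ι * m + 1) ≤ P (s + 1) := by
      intro s
      have hHle : H ≤ (Finset.univ : Finset ι).sup U :=
        (hspan 0).trans (iSup_le fun i => Finset.le_sup (f := U) (Finset.mem_univ i))
      refine (iterB_mono hHle le_rfl _).trans ?_
      refine iterB_finset_sup U Finset.univ (fun i _ => (hstab s).mono inf_le_left)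
        (fun i _ => (hstab (s + 1)).mono inf_le_left) ?_ fun i _ => ?_
      · intro i _ j _ v hv a ha b hb
        exact lie_mem_brk hv (lie_mem_brk ha.1 hb.1)
      · exact ((iterB_mono inf_le_right le_top m).trans (hnil i).le).trans bot_le
    have hiter : ∀ s, iterB H ⊤ (s * (Fintype.card ι * m + 1)) ≤ P s := by
      intro s
      induction s with
      | zero => rw [Nat.zero_mul]; exact le_top
      | succ s ihs =>
        rw [Nat.succ_mul, iterB_add]
        exact (iterB_mono le_rfl ihs _).trans (hstep s)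
    exact le_bot_iff.mp ((hiter N).trans hN.le)

end CfsgLib.CoprimeClass
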