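import Cfsg.Agent.FpfClass.GradedLie

/-!
# Kreknin's theorem with a zero component acting nilpotently

A family `M d`, `d : ZMod p`, closed under the bracket, in which `ν` brackets with elements of
`M 0` kill everything, has derived length bounded in terms of `p` and `ν`.
-/

set_option autoImplicit false

namespace CfsgLib.CoprimeClass

open CfsgLib.FpfClass

variable {p : ℕ} {L : Type*} [LieRing L]

/-- A family closed under the bracket. -/
def Closed (M : ZMod p → AddSubgroup L) : Prop :=
  ∀ a b, ∀ x ∈ M a, ∀ y ∈ M b, ⁅x, y⁆ ∈ M (a + b)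

variable {M : ZMod p → AddSubgroup L}

theorem closed_derived_le (hM : Closed M) : ∀ i, derived M i ≤ M
  | 0 => le_refl _
  | i + 1 => br_le fun a b x hx y hy =>
      hM a b x (closed_derived_le hM i a hx) y (closed_derived_le hM i b hy)

theorem closed_lie_derived (hM : Closed M) : ∀ (i : ℕ) (a b : ZMod p), ∀ x ∈ derived M i a,
    ∀ y ∈ M b, ⁅x, y⁆ ∈ derived M i (a + b)
  | 0 => hM
  | i + 1 => fun a b x hx y hy => by
    refine lie_mem_of_closure hx ?_
    rintro _ ⟨c, e, u, hu, v, hv, hce, rfl⟩
    rw [lie_lie_eq]
    refine AddSubgroup.add_mem _ ?_ ?_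
    · have h := lie_mem_br (A := derived M i) (B := derived M i) (closed_lie_derived hM i c b u hu y hy) hv
      rwa [show c + b + e = a + b by rw [← hce]; abel] at h
    · have h := lie_mem_br (A := derived M i) (B := derived M i) hu (closed_lie_derived hM i e b v hv y hy)
      rwa [show c + (e + b) = a + b by rw [← hce]; abel] at h

theorem closed_derived (hM : Closed M) (i : ℕ) : Closed (derived M i) :=
  fun a b x hx y hy => closed_lie_derived hM i a b x hx y (closed_derived_le hM i b hy)

theorem closed_derived_anti (hM : Closed M) {i j : ℕ} (h : i ≤ j) : derived M j ≤ derived M i := by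
  obtain ⟨k, rfl⟩ := Nat.exists_eq_add_of_le h
  rw [derived_add]
  exact closed_derived_le (closed_derived hM i) k

theorem closed_gen_le (hM : Closed M) (k : ℕ) {d : ZMod p} {x : L} (h : InGen M k d x) :
    x ∈ M d := by
  induction h with
  | of _ hx => exact hx
  | zero d => exact zero_mem _
  | add _ _ ha hb => exact add_mem ha hb
  | neg _ ha => exact neg_mem ha
  | lie _ _ hy ih => exact hM _ _ _ ih _ hy

theorem gen_mono {N : ZMod p → AddSubgroup L} (h : N ≤ M) {k : ℕ} {d : ZMod p} {x : L}
    (hx : InGen N k d x) : InGen M k d x := by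
  induction hx with
  | of he hz => exact InGen.of he (h _ hz)
  | zero d => exact InGen.zero d
  | add _ _ ha hb => exact InGen.add ha hb
  | neg _ ha => exact InGen.neg ha
  | lie _ he hy ih => exact InGen.lie ih he (h _ hy)

theorem closed_lie_gen_mem (hM : Closed M) (k : ℕ) {b : ZMod p} {y : L} (hy : InGen M k b y) :
    ∀ (a : ZMod p) (x : L), InGen M k a x → ⁅x, y⁆ ∈ br M (topPart M k) (a + b) := by
  induction hy with
  | @of e z he hz =>
    intro a x hx
    exact lie_mem_br (closed_gen_le hM k hx) (by rw [topPart, if_pos he]; exact hz)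
  | zero d => intro a x _; rw [lie_zero]; exact zero_mem _
  | add _ _ iha ihb => intro a x hx; rw [lie_add]; exact add_mem (iha a x hx) (ihb a x hx)
  | neg _ iha => intro a x hx; rw [lie_neg]; exact neg_mem (iha a x hx)
  | @lie d e z w hz he hw ih =>
    intro a x hx
    rw [leibniz_lie x z w, ← lie_skew z ⁅x, w⁆]
    refine add_mem ?_ (neg_mem ?_)
    · have h := lie_mem_br (A := M) (B := topPart M k)
        (hM a d x (closed_gen_le hM k hx) z (closed_gen_le hM k hz))
        (show w ∈ topPart M k e by rw [topPart, if_pos he]; exact hw)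
      rwa [add_assoc] at h
    · have h := ih (a + e) _ (hx.lie he hw)
      rwa [show a + e + d = a + (d + e) by abel] at h

theorem closed_gen_lie_gen (hM : Closed M) {k : ℕ} {e : ZMod p} {y : L} (hy : InGen M k e y) :
    ∀ (d : ZMod p) (x : L), InGen M k d x → InGen M k (d + e) ⁅x, y⁆ := by
  induction hy with
  | of he hy => exact fun d x hx => hx.lie he hy
  | zero e => intro d x _; rw [lie_zero]; exact InGen.zero _
  | add _ _ iha ihb => intro d x hx; rw [lie_add]; exact InGen.add (iha d x hx) (ihb d x hx)
  | neg _ iha => intro d x hx; rw [lie_neg]; exact InGen.neg (iha d x hx)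
  | @lie d' e' z w _ he' hw ihz =>
    intro d x hx
    rw [leibniz_lie x z w, ← lie_skew z ⁅x, w⁆]
    refine InGen.add ?_ (InGen.neg ?_)
    · have h := InGen.lie (ihz d x hx) he' hw
      rwa [add_assoc] at h
    · have h := ihz (d + e') _ (hx.lie he' hw)
      rwa [show d + e' + d' = d + (d' + e') by abel] at h

/-- Brackets with the zero component preserve the subring of the top components. -/
theorem gen_lie_zero (hM : Closed M) {k : ℕ} {d : ZMod p} {x : L} (hx : InGen M k d x)
    {z : L} (hz : z ∈ M 0) : InGen M k d ⁅x, z⁆ := by
  induction hx with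
  | @of e x he hx =>
    have h := hM _ _ x hx z hz
    rw [add_zero] at h
    exact InGen.of he h
  | zero d => rw [zero_lie]; exact InGen.zero d
  | add _ _ ha hb => rw [add_lie]; exact InGen.add ha hb
  | neg _ ha => rw [neg_lie]; exact InGen.neg ha
  | @lie d e x y hx he hy ih =>
    rw [lie_lie_eq]
    refine InGen.add (InGen.lie ih he hy) ?_
    have h := hM _ _ y hy z hz
    rw [add_zero] at h
    exact InGen.lie hx he h

/-- `i` brackets with `M 0`, applied to the component of degree `d`. -/
def zeroIter (M : ZMod p → AddSubgroup L) (d : ZMod p) : ℕ → AddSubgroup L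
  | 0 => M d
  | i + 1 => AddSubgroup.closure {w | ∃ x ∈ zeroIter M d i, ∃ z ∈ M 0, ⁅x, z⁆ = w}

theorem lie_mem_zeroIter {d : ZMod p} {i : ℕ} {x z : L} (hx : x ∈ zeroIter M d i) (hz : z ∈ M 0) :
    ⁅x, z⁆ ∈ zeroIter M d (i + 1) :=
  AddSubgroup.subset_closure ⟨x, hx, z, hz, rfl⟩

variable [Fact p.Prime]

/-- One level of Kreknin's induction, up to brackets with the zero component. -/
theorem derived_succ_le (hM : Closed M) (k : ℕ) (hk : k + 1 < p) (s : ℕ)
    (hs : derived M s ≤ gen M k) {x : L}
    (hx : x ∈ derived M (s + 1) ((k + 1 : ℕ) : ZMod p)) :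
    x ∈ gen M (k + 1) ((k + 1 : ℕ) : ZMod p) ⊔ zeroIter M ((k + 1 : ℕ) : ZMod p) 1 := by
  set c : ZMod p := ((k + 1 : ℕ) : ZMod p) with hc
  have hev : c.val = k + 1 := ZMod.val_natCast_of_lt hk
  induction hx using AddSubgroup.closure_induction with
  | zero => exact zero_mem _
  | add a b _ _ ha hb => exact add_mem ha hb
  | neg a _ ha => exact neg_mem ha
  | mem z hz =>
    obtain ⟨a, b, u, hu, v, hv, hab, rfl⟩ := hz
    have h := closed_lie_gen_mem hM k (hs b hv) a u (hs a hu)
    rw [hab] at h
    revert h
    generalize ⁅u, v⁆ = w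
    intro h
    induction h using AddSubgroup.closure_induction with
    | zero => exact zero_mem _
    | add a b _ _ ha hb => exact add_mem ha hb
    | neg a _ ha => exact neg_mem ha
    | mem z hz =>
      obtain ⟨a', b', u', hu', v', hv', hab', rfl⟩ := hz
      by_cases hb' : k < b'.val
      swap
      · rw [topPart, if_neg hb', AddSubgroup.mem_bot] at hv'
        rw [hv', lie_zero]
        exact zero_mem _
      rw [topPart, if_pos hb'] at hv'
      by_cases ha0 : a' = 0
      · refine AddSubgroup.mem_sup_right ?_
        rw [ha0, zero_add] at hab'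
        rw [ha0] at hu'
        rw [hab'] at hv'
        rw [← lie_skew]
        exact neg_mem (lie_mem_zeroIter (i := 0) hv' hu')
      refine AddSubgroup.mem_sup_left ?_
      have hapos : 0 < a'.val :=
        Nat.pos_of_ne_zero fun h => ha0 (by rwa [ZMod.val_eq_zero] at h)
      have hval := ZMod.val_add a' b'
      rw [hab', hev] at hval
      have ha := ZMod.val_lt a'
      have hb := ZMod.val_lt b'
      have hsum : p ≤ a'.val + b'.val := by
        by_contra h
        rw [Nat.mod_eq_of_lt (by omega)] at hval
        omega
      rw [Nat.mod_eq_sub_mod hsum, Nat.mod_eq_of_lt (by omega)] at hval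
      rw [← hab']
      exact InGen.lie (InGen.of (by omega) hu') (by omega) hv'

/-- The derived length at which the derived series is inside `gen M k`. -/
def krekninStep (ν : ℕ) : ℕ → ℕ
  | 0 => ν
  | k + 1 => ν * (krekninStep ν k + 1) + krekninStep ν k

theorem derived_le_gen_of_nil (ν : ℕ) : ∀ (k : ℕ), k < p → ∀ M : ZMod p → AddSubgroup L, Closed M →
    (∀ d, zeroIter M d ν = ⊥) → derived M (krekninStep ν k) ≤ gen M k := by
  intro k
  induction k with
  | zero =>
    intro _ M hM hnil d x hx
    by_cases hd : d = 0
    · subst hd
      have key : ∀ i, derived M i 0 ≤ gen M 0 0 ⊔ zeroIter M 0 i := by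
        intro i
        induction i with
        | zero => exact le_sup_right
        | succ i ih =>
          rw [show derived M (i + 1) = br (derived M i) (derived M i) from rfl, br,
            AddSubgroup.closure_le]
          rintro _ ⟨a, b, u, hu, v, hv, hab, rfl⟩
          by_cases ha : a = 0
          · have hb : b = 0 := by rwa [ha, zero_add] at hab
            rw [ha] at hu
            rw [hb] at hv
            have hv0 : v ∈ M 0 := closed_derived_le hM i 0 hv
            obtain ⟨g, hg, q, hq, rfl⟩ := AddSubgroup.mem_sup.mp (ih hu)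
            rw [add_lie]
            exact add_mem (AddSubgroup.mem_sup_left (gen_lie_zero hM hg hv0))
              (AddSubgroup.mem_sup_right (lie_mem_zeroIter hq hv0))
          · have hb : b ≠ 0 := fun hb => ha (by rwa [hb, add_zero] at hab)
            refine AddSubgroup.mem_sup_left ?_
            have hpos : ∀ e : ZMod p, e ≠ 0 → 0 < e.val := fun e he =>
              Nat.pos_of_ne_zero fun h => he (by rwa [ZMod.val_eq_zero] at h)
            rw [← hab]
            exact InGen.lie (InGen.of (hpos a ha) (closed_derived_le hM i a hu)) (hpos b hb)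
              (closed_derived_le hM i b hv)
      have h := key ν hx
      rwa [hnil, sup_bot_eq] at h
    · exact InGen.of (Nat.pos_of_ne_zero fun h => hd (by rwa [ZMod.val_eq_zero] at h))
        (closed_derived_le hM _ d hx)
  | succ k ih =>
    intro hk M hM hnil
    set s := krekninStep ν k with hs
    set c : ZMod p := ((k + 1 : ℕ) : ZMod p) with hc
    have hev : c.val = k + 1 := ZMod.val_natCast_of_lt hk
    have hnil' : ∀ i d, zeroIter (derived M i) d ν = ⊥ := by
      intro i d
      refine le_bot_iff.mp (le_trans ?_ (hnil d).le)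
      suffices h : ∀ j, zeroIter (derived M i) d j ≤ zeroIter M d j from h ν
      intro j
      induction j with
      | zero => exact closed_derived_le hM i d
      | succ j ihj =>
        refine (AddSubgroup.closure_le _).mpr ?_
        rintro _ ⟨x, hx, z, hz, rfl⟩
        exact lie_mem_zeroIter (ihj hx) (closed_derived_le hM i 0 hz)
    have key : ∀ i, derived M (i * (s + 1)) c ≤ gen M (k + 1) c ⊔ zeroIter M c i := by
      intro i
      induction i with
      | zero => rw [zero_mul]; exact le_sup_right
      | succ i ihi =>
        intro x hx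
        rw [add_mul, one_mul, derived_add] at hx
        have hM' := closed_derived hM (i * (s + 1))
        have hle := closed_derived_le hM (i * (s + 1))
        obtain ⟨g, hg, q, hq, rfl⟩ := AddSubgroup.mem_sup.mp
          (derived_succ_le hM' k hk s (ih (by omega) _ hM' (hnil' _)) hx)
        refine add_mem (AddSubgroup.mem_sup_left (gen_mono hle hg)) ?_
        clear hx hg
        induction hq using AddSubgroup.closure_induction with
        | zero => exact zero_mem _
        | add a b _ _ ha hb => exact add_mem ha hb
        | neg a _ ha => exact neg_mem ha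
        | mem w hw =>
          obtain ⟨y, hy, z, hz, rfl⟩ := hw
          obtain ⟨g', hg', q', hq', rfl⟩ := AddSubgroup.mem_sup.mp (ihi hy)
          rw [add_lie]
          exact add_mem (AddSubgroup.mem_sup_left (gen_lie_zero hM hg' (hle 0 hz)))
            (AddSubgroup.mem_sup_right (lie_mem_zeroIter hq' (hle 0 hz)))
    set R := ν * (s + 1) with hR
    have htop : derived M R c ≤ gen M (k + 1) c := by
      have h := key ν
      rwa [hnil, sup_bot_eq] at h
    have hM' := closed_derived hM R
    intro d x hx
    have hx' : InGen (derived M R) k d x := by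
      rw [show krekninStep ν (k + 1) = R + s from rfl, derived_add] at hx
      exact ih (by omega) _ hM' (hnil' R) d hx
    have hbase : ∀ e : ZMod p, k < e.val → ∀ z ∈ derived M R e, InGen M (k + 1) e z := by
      intro e he z hz
      by_cases he' : k + 1 < e.val
      · exact InGen.of he' (closed_derived_le hM _ e hz)
      have he2 : e = c := ZMod.val_injective p (by omega)
      rw [he2] at hz ⊢
      exact htop hz
    show InGen M (k + 1) d x
    clear hx
    induction hx' with
    | of he hz => exact hbase _ he _ hz
    | zero d => exact InGen.zero d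
    | add _ _ ha hb => exact InGen.add ha hb
    | neg _ ha => exact InGen.neg ha
    | lie _ he hy ih' => exact closed_gen_lie_gen hM (hbase _ he _ hy) _ _ ih'

/-- Kreknin's theorem with nilpotently acting zero component. -/
theorem derived_eq_bot_of_nil (hM : Closed M) (ν : ℕ) (hnil : ∀ d, zeroIter M d ν = ⊥)
    (d : ZMod p) : derived M (krekninStep ν (p - 1)) d = ⊥ := by
  rw [eq_bot_iff]
  intro x hx
  have hp := (Fact.out : p.Prime).pos
  have h' : InGen M (p - 1) d x := derived_le_gen_of_nil ν (p - 1) (by omega) M hM hnil d hx
  rw [AddSubgroup.mem_bot]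
  clear hx
  induction h' with
  | @of e x he _ => have := ZMod.val_lt e; omega
  | zero => rfl
  | add _ _ ha hb => rw [ha, hb, add_zero]
  | neg _ ha => rw [ha, neg_zero]
  | lie _ _ _ ih => rw [ih, zero_lie]

end CfsgLib.CoprimeClass
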