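import Cfsg.Agent.FpfClass.Bound
import Cfsg.Agent.CoprimeClass.Kreknin
import Cfsg.Agent.CoprimeClass.Collect

/-!
# The extended Lie ring of a group acted on coprimely by an elementary abelian group

Eigen-decomposition, averaging over subgroups, and lifting of fixed points.
-/

set_option autoImplicit false
set_option linter.unusedSectionVars false

open scoped TensorProduct commutatorElement

namespace CfsgLib.CoprimeClass

open CfsgLib.FpfClass

variable {p : ℕ} {N : Type*} [Group N]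

/-- The span of the images of a subgroup in all degrees. -/
noncomputable def ER (p : ℕ) (S : Subgroup N) : AddSubgroup (ExtGr p N) :=
  AddSubgroup.closure {z | ∃ (r : CycRing p) (i : ℕ) (g : N), g ∈ S ∧ g ∈ gam N i ∧ r ⊗ₜ[ℤ] cl i g = z}

theorem tmul_cl_mem_ER {S : Subgroup N} (r : CycRing p) {i : ℕ} {g : N} (hg : g ∈ S)
    (hi : g ∈ gam N i) : r ⊗ₜ[ℤ] cl i g ∈ ER p S :=
  AddSubgroup.subset_closure ⟨r, i, g, hg, hi, rfl⟩

theorem ER_mono {S T : Subgroup N} (h : S ≤ T) : ER p S ≤ ER p T := by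
  refine (AddSubgroup.closure_le _).mpr ?_
  rintro _ ⟨r, i, g, hg, hi, rfl⟩
  exact tmul_cl_mem_ER r (h hg) hi

theorem ER_bot : ER p (⊥ : Subgroup N) = ⊥ := by
  refine le_bot_iff.mp ((AddSubgroup.closure_le _).mpr ?_)
  rintro _ ⟨r, i, g, hg, hi, rfl⟩
  rw [Subgroup.mem_bot] at hg
  rw [hg, cl_one, TensorProduct.tmul_zero]
  exact zero_mem _

theorem top_le_ER : (⊤ : AddSubgroup (ExtGr p N)) ≤ ER p ⊤ := by
  intro x hx
  clear hx
  induction x using TensorProduct.induction_on with
  | zero => exact zero_mem _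
  | tmul r a =>
    induction a using gr_induction with
    | h0 => rw [TensorProduct.tmul_zero]; exact zero_mem _
    | hcl i g hg => exact tmul_cl_mem_ER r (Subgroup.mem_top g) hg
    | hadd u v hu hv => rw [TensorProduct.tmul_add]; exact add_mem hu hv
  | add u v hu hv => exact add_mem hu hv

theorem smul_mem_ER {S : Subgroup N} (s : CycRing p) {x : ExtGr p N} (hx : x ∈ ER p S) :
    s • x ∈ ER p S := by
  induction hx using AddSubgroup.closure_induction with
  | zero => rw [smul_zero]; exact zero_mem _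
  | add u v _ _ hu hv => rw [smul_add]; exact add_mem hu hv
  | neg u _ hu => rw [smul_neg]; exact neg_mem hu
  | mem z hz =>
    obtain ⟨r, i, g, hg, hi, rfl⟩ := hz
    rw [TensorProduct.smul_tmul']
    exact tmul_cl_mem_ER _ hg hi

theorem extMap_mem_ER {S : Subgroup N} {α : MulAut N} (h : ∀ g ∈ S, α g ∈ S) {x : ExtGr p N}
    (hx : x ∈ ER p S) : extMap p α x ∈ ER p S := by
  induction hx using AddSubgroup.closure_induction with
  | zero => rw [map_zero]; exact zero_mem _
  | add u v _ _ hu hv => rw [map_add]; exact add_mem hu hv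
  | neg u _ hu => rw [map_neg]; exact neg_mem hu
  | mem z hz =>
    obtain ⟨r, i, g, hg, hi, rfl⟩ := hz
    rw [extMap_tmul, grMap_cl α i hi]
    exact tmul_cl_mem_ER _ (h g hg) (map_mem_gam α hi)

theorem brk_ER_le (S T : Subgroup N) : brk (ER p S) (ER p T) ≤ ER p ⁅S, T⁆ := by
  refine brk_le fun x hx y hy => ?_
  induction hx using AddSubgroup.closure_induction with
  | zero => rw [ext_zero_lie]; exact zero_mem _
  | add u v _ _ hu hv => rw [ext_add_lie]; exact add_mem hu hv
  | neg u _ hu => rw [neg_lie]; exact neg_mem hu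
  | mem z hz =>
    obtain ⟨r, i, g, hg, hi, rfl⟩ := hz
    induction hy using AddSubgroup.closure_induction with
    | zero => rw [ext_lie_zero]; exact zero_mem _
    | add u v _ _ hu hv => rw [ext_lie_add]; exact add_mem hu hv
    | neg u _ hu => rw [lie_neg]; exact neg_mem hu
    | mem w hw =>
      obtain ⟨s, j, h, hh, hj, rfl⟩ := hw
      rw [LieAlgebra.ExtendScalars.bracket_tmul, lie_cl hi hj]
      exact tmul_cl_mem_ER _ (Subgroup.commutator_mem_commutator hg hh) (commutator_mem_gam hi hj)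

theorem exists_inv_nsmul [Finite N] {n : ℕ} (h : n.Coprime (Nat.card N)) :
    ∃ c : ℕ, ∀ x : ExtGr p N, c • n • x = x := by
  obtain ⟨c, hc⟩ : ∃ c : ℕ, n * c ≡ 1 [MOD Nat.card N] := by
    rcases (show 1 ≤ Nat.card N from Nat.card_pos).eq_or_lt with h1 | h1
    · exact ⟨0, by rw [← h1]; exact Nat.modEq_one⟩
    · obtain ⟨c, -, hc⟩ := Nat.exists_mul_mod_eq_one_of_coprime h h1
      exact ⟨c, by rw [Nat.ModEq, hc, Nat.mod_eq_of_lt h1]⟩
  refine ⟨c, fun x => ?_⟩
  induction x using TensorProduct.induction_on with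
  | zero => simp
  | tmul r a =>
    rw [← TensorProduct.tmul_smul, ← TensorProduct.tmul_smul, smul_smul, mul_comm]
    congr 1
    conv_rhs => rw [← one_smul ℕ a]
    rw [← Nat.mod_add_div (n * c) (Nat.card N), ← Nat.mod_add_div 1 (Nat.card N), add_smul, add_smul,
      mul_comm (Nat.card N), mul_comm (Nat.card N), mul_smul, mul_smul, card_nsmul_gr, smul_zero,
      smul_zero, show n * c % Nat.card N = 1 % Nat.card N from hc]
  | add u w hu hw => rw [smul_add, smul_add, hu, hw]

variable [Fact p.Prime]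

theorem sum_proj [NeZero p] (α : MulAut N) (x : ExtGr p N) :
    ∑ d : ZMod p, proj p α d x = p • x := by
  have h : ∑ d : ZMod p, proj p α d x = (p : CycRing p) • x := by
    simp only [proj]
    rw [Finset.sum_comm]
    simp only [← Finset.sum_smul, sum_rootPow_mul, ite_smul, zero_smul, Finset.sum_ite_eq',
      Finset.mem_univ, if_true]
    rw [ZMod.val_zero, pow_zero, extMap_one]
  rw [h, Nat.cast_smul_eq_nsmul]

theorem eq_zero_of_rootPow_smul [Finite N] (hp : ¬ p ∣ Nat.card N) {d : ZMod p} (hd : d ≠ 0)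
    {x : ExtGr p N} (h : rootPow p d • x = x) : x = 0 := by
  haveI : NeZero p := ⟨(Fact.out : p.Prime).ne_zero⟩
  have hk : ∀ k : ℕ, rootPow p ((k : ZMod p) * d) • x = x := by
    intro k
    induction k with
    | zero => rw [Nat.cast_zero, zero_mul, rootPow_zero, one_smul]
    | succ k ih => rw [Nat.cast_succ, add_mul, one_mul, rootPow_add, mul_smul, h, ih]
  have hsum : ∑ z : ZMod p, rootPow p (z * d) • x = 0 := by
    rw [← Finset.sum_smul]
    have h2 : ∑ z : ZMod p, rootPow p (z * d) = ∑ z : ZMod p, rootPow p z :=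
      Equiv.sum_comp (Equiv.mulRight₀ d hd) (fun z => rootPow p z)
    rw [h2, sum_rootPow, zero_smul]
  have hall : ∀ z : ZMod p, rootPow p (z * d) • x = x := fun z => by
    have h3 := hk z.val
    rwa [ZMod.natCast_zmod_val] at h3
  rw [Finset.sum_congr rfl (fun z _ => hall z), Finset.sum_const, Finset.card_univ, ZMod.card] at hsum
  obtain ⟨c, hc⟩ := exists_inv_nsmul (p := p) ((Fact.out : p.Prime).coprime_iff_not_dvd.mpr hp)
  rw [← hc x, hsum, smul_zero]

variable {A : Type*} [Group A]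

/-- The elements fixed by `B`. -/
def Fix (φ : A →* MulAut N) (B : Subgroup A) : Subgroup N where
  carrier := {x | ∀ b ∈ B, φ b x = x}
  one_mem' := fun b _ => map_one _
  mul_mem' := fun {x y} hx hy b hb => by rw [map_mul, hx b hb, hy b hb]
  inv_mem' := fun {x} hx b hb => by rw [map_inv, hx b hb]

theorem mem_Fix {φ : A →* MulAut N} {B : Subgroup A} {x : N} :
    x ∈ Fix φ B ↔ ∀ b ∈ B, φ b x = x := Iff.rfl

theorem map_mem_Fix (hc : ∀ a b : A, a * b = b * a) {φ : A →* MulAut N} {B : Subgroup A} (a : A)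
    {x : N} (hx : x ∈ Fix φ B) : φ a x ∈ Fix φ B := fun b hb => by
  rw [← MulAut.mul_apply, ← map_mul, hc b a, map_mul, MulAut.mul_apply, hx b hb]

/-- The elements of the extended Lie ring fixed by `B`. -/
noncomputable def fixL (p : ℕ) (φ : A →* MulAut N) (B : Subgroup A) : AddSubgroup (ExtGr p N) where
  carrier := {x | ∀ b ∈ B, extMap p (φ b) x = x}
  zero_mem' := fun b _ => map_zero _
  add_mem' := fun {x y} hx hy b hb => by rw [map_add, hx b hb, hy b hb]
  neg_mem' := fun {x} hx b hb => by rw [map_neg, hx b hb]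

theorem mem_fixL {φ : A →* MulAut N} {B : Subgroup A} {x : ExtGr p N} :
    x ∈ fixL p φ B ↔ ∀ b ∈ B, extMap p (φ b) x = x := Iff.rfl

theorem extMap_mem_fixL (hc : ∀ a b : A, a * b = b * a) {φ : A →* MulAut N} {B : Subgroup A}
    (a : A) {x : ExtGr p N} (hx : x ∈ fixL p φ B) : extMap p (φ a) x ∈ fixL p φ B := fun b hb => by
  rw [extMap_extMap, ← map_mul, hc b a, map_mul, ← extMap_extMap, hx b hb]

theorem smul_mem_fixL {φ : A →* MulAut N} {B : Subgroup A} (r : CycRing p) {x : ExtGr p N}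
    (hx : x ∈ fixL p φ B) : r • x ∈ fixL p φ B := fun b hb => by
  rw [map_smul, hx b hb]

theorem brk_fixL_le {φ : A →* MulAut N} (B : Subgroup A) :
    brk (fixL p φ B) (fixL p φ B) ≤ fixL p φ B :=
  brk_le fun x hx y hy b hb => by rw [extMap_lie, hx b hb, hy b hb]

theorem fixL_bot (φ : A →* MulAut N) : (⊤ : AddSubgroup (ExtGr p N)) ≤ fixL p φ ⊥ := fun x _ b hb => by
  rw [Subgroup.mem_bot] at hb
  rw [hb, map_one, extMap_one]

/-- The common eigenspaces. -/
noncomputable def eigs (p : ℕ) (φ : A →* MulAut N) (f : A → ZMod p) : AddSubgroup (ExtGr p N) :=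
  ⨅ a, eig p (φ a) (f a)

theorem mem_eigs {φ : A →* MulAut N} {f : A → ZMod p} {x : ExtGr p N} :
    x ∈ eigs p φ f ↔ ∀ a, extMap p (φ a) x = rootPow p (f a) • x := by
  simp only [eigs, AddSubgroup.mem_iInf]
  rfl

theorem smul_mem_eigs {φ : A →* MulAut N} {f : A → ZMod p} (r : CycRing p) {x : ExtGr p N}
    (hx : x ∈ eigs p φ f) : r • x ∈ eigs p φ f := by
  rw [mem_eigs] at hx ⊢
  intro a
  rw [map_smul, hx a, smul_comm]

theorem brk_eigs_le {φ : A →* MulAut N} (f g : A → ZMod p) :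
    brk (eigs p φ f) (eigs p φ g) ≤ eigs p φ (f + g) := by
  refine brk_le fun x hx y hy => ?_
  rw [mem_eigs] at hx hy ⊢
  intro a
  rw [extMap_lie, hx a, hy a, ext_smul_lie, Pi.add_apply, rootPow_add]

/-- A function that is a homomorphism. -/
def IsAdd (f : A → ZMod p) : Prop := ∀ a b, f (a * b) = f a + f b

theorem eigs_eq_bot [Finite N] (hp : ¬ p ∣ Nat.card N) {φ : A →* MulAut N} {f : A → ZMod p}
    (hf : ¬ IsAdd f) : eigs p φ f = ⊥ := by
  rw [eq_bot_iff]
  intro x hx
  rw [mem_eigs] at hx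
  simp only [IsAdd, not_forall] at hf
  obtain ⟨a, b, hab⟩ := hf
  rw [AddSubgroup.mem_bot]
  have h1 : rootPow p (f (a * b)) • x = rootPow p (f a + f b) • x := by
    rw [← hx (a * b), map_mul, ← extMap_extMap, hx b, map_smul, hx a, smul_smul, ← rootPow_add,
      add_comm]
  refine eq_zero_of_rootPow_smul hp (sub_ne_zero.mpr hab) ?_
  have h2 := congrArg (fun z => rootPow p (-(f a + f b)) • z) h1
  simp only [smul_smul, ← rootPow_add] at h2
  rwa [neg_add_cancel, rootPow_zero, one_smul, neg_add_eq_sub] at h2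

/-- The kernel. -/
def kerOf {f : A → ZMod p} (hf : IsAdd f) : Subgroup A :=
  (MonoidHom.mk' (fun a => Multiplicative.ofAdd (f a)) fun a b => by rw [hf a b]; rfl).ker

theorem mem_kerOf {f : A → ZMod p} {hf : IsAdd f} {a : A} : a ∈ kerOf hf ↔ f a = 0 := by
  rw [kerOf, MonoidHom.mem_ker]
  exact Iff.rfl

theorem index_kerOf_le {f : A → ZMod p} (hf : IsAdd f) : (kerOf hf).index ≤ p := by
  haveI : NeZero p := ⟨(Fact.out : p.Prime).ne_zero⟩
  rw [kerOf, Subgroup.index_ker]
  refine (Nat.card_le_card_of_injective Subtype.val Subtype.val_injective).trans ?_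
  rw [Nat.card_congr (Multiplicative.toAdd), Nat.card_zmod]

theorem eigs_le_fixL {φ : A →* MulAut N} {f : A → ZMod p} (hf : IsAdd f) :
    eigs p φ f ≤ fixL p φ (kerOf hf) := fun x hx b hb => by
  rw [mem_eigs.mp hx b, mem_kerOf.mp hb, rootPow_zero, one_smul]

variable [Finite A] [Finite N]

/-- Coprime decomposition of an invariant submodule along the eigenspaces. -/
theorem le_iSup_inf_eigs (hc : ∀ a b : A, a * b = b * a) (hexp : ∀ a : A, a ^ p = 1)
    (hp : ¬ p ∣ Nat.card N) {φ : A →* MulAut N} (Y : AddSubgroup (ExtGr p N))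
    (hmap : ∀ a, ∀ x ∈ Y, extMap p (φ a) x ∈ Y) (hsmul : ∀ r : CycRing p, ∀ x ∈ Y, r • x ∈ Y) :
    Y ≤ ⨆ f, Y ⊓ eigs p φ f := by
  classical
  haveI : NeZero p := ⟨(Fact.out : p.Prime).ne_zero⟩
  haveI := Fintype.ofFinite A
  suffices h : ∀ F : Finset A, Y ≤ ⨆ f : A → ZMod p, Y ⊓ ⨅ a ∈ F, eig p (φ a) (f a) by
    refine (h Finset.univ).trans (iSup_le fun f => le_iSup_of_le f (inf_le_inf_left _ ?_))
    exact le_iInf fun a => iInf₂_le a (Finset.mem_univ a)
  intro F
  induction F using Finset.induction_on with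
  | empty => exact le_iSup_of_le (fun _ => 0) (by simp)
  | @insert a F ha ih =>
    refine ih.trans (iSup_le fun f => ?_)
    intro x hx
    obtain ⟨hxY, hxF⟩ := AddSubgroup.mem_inf.mp hx
    obtain ⟨c, hcc⟩ := exists_inv_nsmul (p := p) ((Fact.out : p.Prime).coprime_iff_not_dvd.mpr hp)
      (N := N)
    rw [← hcc x]
    refine nsmul_mem ?_ c
    rw [← sum_proj (φ a) x]
    refine AddSubgroup.sum_mem _ fun d _ => AddSubgroup.mem_iSup_of_mem (Function.update f a d) ?_
    refine AddSubgroup.mem_inf.mpr ⟨?_, ?_⟩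
    · refine AddSubgroup.sum_mem _ fun k _ => hsmul _ _ ?_
      rw [← map_pow]
      exact hmap _ x hxY
    · rw [AddSubgroup.mem_iInf]
      intro b
      rw [AddSubgroup.mem_iInf]
      intro hb
      rcases Finset.mem_insert.mp hb with rfl | hb'
      · rw [Function.update_self]
        exact proj_mem _ (by rw [← map_pow, hexp, map_one]) d x
      · have hne : b ≠ a := fun h => ha (h ▸ hb')
        rw [Function.update_of_ne hne]
        have hxb : extMap p (φ b) x = rootPow p (f b) • x := by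
          have h := hxF
          rw [AddSubgroup.mem_iInf] at h
          have h' := h b
          rw [AddSubgroup.mem_iInf] at h'
          exact h' hb'
        show extMap p (φ b) (proj p (φ a) d x) = rootPow p (f b) • proj p (φ a) d x
        simp only [proj, map_sum, map_smul, Finset.smul_sum, extMap_extMap, ← map_pow, ← map_mul]
        refine Finset.sum_congr rfl fun k _ => ?_
        rw [hc b, map_mul, ← extMap_extMap, hxb, map_smul, smul_comm]

/-- The sum over a subgroup. -/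
noncomputable def avg (p : ℕ) (φ : A →* MulAut N) (B : Subgroup A) (x : ExtGr p N) : ExtGr p N :=
  letI := Fintype.ofFinite ↥B
  ∑ b : ↥B, extMap p (φ b) x

theorem avg_mem_fixL (φ : A →* MulAut N) (B : Subgroup A) (x : ExtGr p N) :
    avg p φ B x ∈ fixL p φ B := fun b hb => by
  letI := Fintype.ofFinite ↥B
  rw [avg, map_sum]
  simp only [extMap_extMap, ← map_mul]
  exact Equiv.sum_comp (Equiv.mulLeft (⟨b, hb⟩ : ↥B)) (fun c : ↥B => extMap p (φ c) x)

theorem avg_eq_nsmul {φ : A →* MulAut N} {B : Subgroup A} {x : ExtGr p N}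
    (hx : x ∈ fixL p φ B) : avg p φ B x = Nat.card ↥B • x := by
  letI := Fintype.ofFinite ↥B
  rw [avg, Finset.sum_congr rfl (fun (b : ↥B) _ => hx b b.2), Finset.sum_const, Finset.card_univ,
    Nat.card_eq_fintype_card]

theorem avg_add (φ : A →* MulAut N) (B : Subgroup A) (x y : ExtGr p N) :
    avg p φ B (x + y) = avg p φ B x + avg p φ B y := by
  simp only [avg, map_add, Finset.sum_add_distrib]

theorem avg_zero (φ : A →* MulAut N) (B : Subgroup A) : avg p φ B (0 : ExtGr p N) = 0 := by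
  simp only [avg, map_zero, Finset.sum_const_zero]

theorem avg_neg (φ : A →* MulAut N) (B : Subgroup A) (x : ExtGr p N) :
    avg p φ B (-x) = -avg p φ B x := by
  simp only [avg, map_neg, Finset.sum_neg_distrib]

theorem coprime_card_subgroup (hexp : ∀ a : A, a ^ p = 1) (hp : ¬ p ∣ Nat.card N) (B : Subgroup A) :
    (Nat.card ↥B).Coprime (Nat.card N) := by
  have hA : IsPGroup p A := fun a => ⟨1, by rw [pow_one]; exact hexp a⟩
  obtain ⟨n, hn⟩ := IsPGroup.iff_card.mp hA
  have hd : Nat.card ↥B ∣ p ^ n := hn ▸ Subgroup.card_subgroup_dvd_card B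
  exact ((((Fact.out : p.Prime).coprime_iff_not_dvd.mpr hp).pow_left n)).coprime_dvd_left hd

/-- Lifting of fixed cosets. -/
def Lifts (φ : A →* MulAut N) : Prop :=
  ∀ (B : Subgroup A) (M : Subgroup N), (∀ a, ∀ x ∈ M, φ a x ∈ M) → ∀ g : N,
    (∀ b ∈ B, g⁻¹ * φ b g ∈ M) → ∃ c ∈ Fix φ B, g⁻¹ * c ∈ M

/-- Fixed elements of the image of `K` come from the fixed points in `K`. -/
theorem ER_inf_fixL_le (hexp : ∀ a : A, a ^ p = 1) (hp : ¬ p ∣ Nat.card N) {φ : A →* MulAut N}
    (hlift : Lifts φ) {K : Subgroup N} (hK : ∀ a, ∀ x ∈ K, φ a x ∈ K) (B : Subgroup A) :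
    ER p K ⊓ fixL p φ B ≤ ER p (K ⊓ Fix φ B) := by
  rintro x ⟨hxK, hxB⟩
  obtain ⟨c, hc⟩ := exists_inv_nsmul (p := p) (coprime_card_subgroup hexp hp B)
  rw [← hc x]
  refine nsmul_mem ?_ c
  rw [← avg_eq_nsmul hxB]
  clear hxB hc
  induction hxK using AddSubgroup.closure_induction with
  | zero => rw [avg_zero]; exact zero_mem _
  | add u v _ _ hu hv => rw [avg_add]; exact add_mem hu hv
  | neg u _ hu => rw [avg_neg]; exact neg_mem hu
  | mem z hz =>
    obtain ⟨r, i, g, hg, hi, rfl⟩ := hz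
    letI := Fintype.ofFinite ↥B
    classical
    have key : ∀ F : Finset ↥B, ∃ h ∈ K, h ∈ gam N i ∧ cl i h = ∑ b ∈ F, cl i (φ b g) := by
      intro F
      induction F using Finset.induction_on with
      | empty => exact ⟨1, K.one_mem, (gam N i).one_mem, by rw [cl_one, Finset.sum_empty]⟩
      | @insert b F hb ih =>
        obtain ⟨h, hhK, hhi, hh⟩ := ih
        exact ⟨φ b g * h, K.mul_mem (hK _ g hg) hhK, (gam N i).mul_mem (map_mem_gam _ hi) hhi, by
          rw [cl_mul i (map_mem_gam _ hi) hhi, hh, Finset.sum_insert hb]⟩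
    obtain ⟨h, hhK, hhi, hh⟩ := key Finset.univ
    have hfix : ∀ b ∈ B, h⁻¹ * φ b h ∈ K ⊓ gam N (i + 1) := by
      intro b hb
      have hcl : cl i (φ b h) = cl i h := by
        rw [← grMap_cl (φ b) i hhi, hh, map_sum]
        have hcomp : ∀ c : ↥B, grMap (φ b) (cl i (φ c g)) = cl i (φ ((⟨b, hb⟩ : ↥B) * c : ↥B) g) :=
          fun c => by
            rw [grMap_cl (φ b) i (map_mem_gam _ hi), Subgroup.coe_mul, map_mul, MulAut.mul_apply]
        rw [Finset.sum_congr rfl fun c _ => hcomp c]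
        exact Equiv.sum_comp (Equiv.mulLeft (⟨b, hb⟩ : ↥B)) (fun c : ↥B => cl i (φ c g))
      refine ⟨K.mul_mem (K.inv_mem hhK) (hK b h hhK), ?_⟩
      refine (cl_eq_zero_iff i ((gam N i).mul_mem ((gam N i).inv_mem hhi) (map_mem_gam _ hhi))).mp ?_
      rw [cl_mul i ((gam N i).inv_mem hhi) (map_mem_gam _ hhi), cl_inv i hhi, hcl, neg_add_cancel]
    obtain ⟨e, heB, he⟩ := hlift B (K ⊓ gam N (i + 1))
      (fun a y hy => ⟨hK a y hy.1, map_mem_gam _ hy.2⟩) h hfix
    have heK : e ∈ K := by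
      have h1 := K.mul_mem hhK he.1
      rwa [mul_inv_cancel_left] at h1
    have hei : e ∈ gam N i := by
      have h1 := (gam N i).mul_mem hhi (gam_succ_le i he.2)
      rwa [mul_inv_cancel_left] at h1
    have hsum : avg p φ B (r ⊗ₜ[ℤ] cl i g) = r ⊗ₜ[ℤ] cl i e := by
      rw [← cl_eq_of_mk_eq i hhi hei (QuotientGroup.eq.mpr he.2), hh, avg, TensorProduct.tmul_sum]
      exact Finset.sum_congr rfl fun b _ => by rw [extMap_tmul, grMap_cl _ i hi]
    rw [hsum]
    exact tmul_cl_mem_ER r ⟨heK, heB⟩ hei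

end CfsgLib.CoprimeClass
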