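import Mathlib.GroupTheory.SemidirectProduct
import Cfsg.Agent.Signalizer.Generation
import Cfsg.Agent.SolvSig.Apps
import Cfsg.Agent.Coprime.Action
import Cfsg.Agent.CoprimeClass.Graded

/-!
# Coprime action facts for an action by automorphisms, through the semidirect product
-/

set_option autoImplicit false

namespace CfsgLib.CoprimeClass

variable {p : ℕ} {G : Type*} [Group G] {A : Type*} [Group A]

open SemidirectProduct

theorem inr_conj_inl (φ : A →* MulAut G) (a : A) (g : G) :
    (inr a : G ⋊[φ] A) * inl g * (inr a)⁻¹ = inl (φ a g) := by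
  rw [← map_inv, inl_aut]

theorem le_normalizer_map_inl (φ : A →* MulAut G) {M : Subgroup G}
    (hM : ∀ a, ∀ x ∈ M, φ a x ∈ M) (B : Subgroup A) :
    B.map (inr : A →* G ⋊[φ] A) ≤ Subgroup.normalizer ((M.map (inl : G →* G ⋊[φ] A) :
      Subgroup (G ⋊[φ] A)) : Set (G ⋊[φ] A)) := by
  rintro _ ⟨b, -, rfl⟩
  rw [Subgroup.mem_normalizer_iff]
  intro x
  constructor
  · rintro ⟨m, hm, rfl⟩
    exact ⟨φ b m, hM b m hm, (inr_conj_inl φ b m).symm⟩
  · rintro ⟨m, hm, hmx⟩
    refine ⟨φ b⁻¹ m, hM _ m hm, ?_⟩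
    rw [← inr_conj_inl, hmx, map_inv]
    group

theorem inl_mem_centralizer_iff (φ : A →* MulAut G) (B : Subgroup A) (g : G) :
    (inl g : G ⋊[φ] A) ∈ Subgroup.centralizer ((B.map (inr : A →* G ⋊[φ] A) :
      Subgroup (G ⋊[φ] A)) : Set (G ⋊[φ] A)) ↔ g ∈ Fix φ B := by
  rw [Subgroup.mem_centralizer_iff, mem_Fix]
  constructor
  · intro h b hb
    have h1 := h (inr b) ⟨b, hb, rfl⟩
    apply inl_injective (φ := φ)
    rw [← inr_conj_inl, h1, mul_inv_cancel_right]
  · rintro h _ ⟨b, hb, rfl⟩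
    have h1 := inr_conj_inl φ b g
    rw [h b hb] at h1
    exact mul_inv_eq_iff_eq_mul.mp h1

theorem card_map_inl (φ : A →* MulAut G) (M : Subgroup G) :
    Nat.card ↥(M.map (inl : G →* G ⋊[φ] A)) = Nat.card ↥M :=
  Subgroup.card_map_of_injective inl_injective

theorem isElementaryAbelian_range_inr (φ : A →* MulAut G) (hc : ∀ a b : A, a * b = b * a)
    (hexp : ∀ a : A, a ^ p = 1) :
    Cfsg.IsElementaryAbelian p (inr : A →* G ⋊[φ] A).range := by
  refine ⟨⟨⟨?_⟩⟩, ?_⟩
  · rintro ⟨_, a, rfl⟩ ⟨_, b, rfl⟩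
    exact Subtype.ext (by simp only [Subgroup.coe_mul, ← map_mul, hc a b])
  · rintro _ ⟨a, rfl⟩
    rw [← map_pow, hexp a, map_one]

variable [Finite G] [Finite A] [Fact p.Prime]

instance finite_semidirect (φ : A →* MulAut G) : Finite (G ⋊[φ] A) :=
  Finite.of_equiv _ SemidirectProduct.equivProd.symm

theorem lifts_of_coprime (hc : ∀ a b : A, a * b = b * a) (hexp : ∀ a : A, a ^ p = 1)
    (hp : ¬ p ∣ Nat.card G) (φ : A →* MulAut G) : Lifts φ := by
  intro B M hM g hg
  have hBsol : Group.IsSolvable ↥(B.map (inr : A →* G ⋊[φ] A)) := Group.isSolvable_of_comm (by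
    rintro ⟨_, a, -, rfl⟩ ⟨_, b, -, rfl⟩
    exact Subtype.ext (by simp only [Subgroup.coe_mul, ← map_mul, hc a b]))
  have hcop : (Nat.card ↥(B.map (inr : A →* G ⋊[φ] A))).Coprime
      (Nat.card ↥(M.map (inl : G →* G ⋊[φ] A))) := by
    rw [Subgroup.card_map_of_injective inr_injective, card_map_inl]
    exact (coprime_card_subgroup hexp hp B).coprime_dvd_right M.card_subgroup_dvd_card
  obtain ⟨c, hcc, ⟨m, hm, hmc⟩⟩ := CfsgLib.Coprime.exists_fixed_mem_coset
    (le_normalizer_map_inl φ hM B) hcop (Or.inl hBsol) (k := (inl g : G ⋊[φ] A)) (by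
      rintro _ ⟨b, hb, rfl⟩
      exact ⟨g⁻¹ * φ b g, hg b hb, by rw [map_mul, map_inv, inr_conj_inl]⟩)
  have hcm : c = inl (g * m) := by rw [map_mul, hmc, mul_inv_cancel_left]
  rw [hcm, inl_mem_centralizer_iff] at hcc
  exact ⟨g * m, hcc, by rwa [inv_mul_cancel_left]⟩

/-- An invariant subgroup is generated by the fixed points of hyperplanes. -/
theorem le_iSup_inf_Fix (hc : ∀ a b : A, a * b = b * a) (hexp : ∀ a : A, a ^ p = 1)
    (hp : ¬ p ∣ Nat.card G) (φ : A →* MulAut G) {K : Subgroup G}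
    (hK : ∀ a, ∀ x ∈ K, φ a x ∈ K) :
    K ≤ ⨆ B : {B : Subgroup A // B.index ≤ p}, K ⊓ Fix φ (B : Subgroup A) := by
  set X := G ⋊[φ] A
  have h := CfsgLib.Signalizer.le_of_forall_hyperplane (p := p) (A := (inr : A →* X).range)
    (X := K.map (inl : G →* X))
    (D := (⨆ B : {B : Subgroup A // B.index ≤ p}, K ⊓ Fix φ (B : Subgroup A)).map (inl : G →* X))
    (isElementaryAbelian_range_inr φ hc hexp)
    (by rw [card_map_inl]; exact fun h => hp (h.trans K.card_subgroup_dvd_card))
    (by rw [MonoidHom.range_eq_map]; exact le_normalizer_map_inl φ hK ⊤) (by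
      intro B hB hidx x hx
      obtain ⟨⟨g, hg, rfl⟩, hxB⟩ := Subgroup.mem_inf.mp hx
      refine ⟨g, ?_, rfl⟩
      have hidx' : (B.comap (inr : A →* X)).index ≤ p := by rw [Subgroup.index_comap]; exact hidx
      refine Subgroup.mem_iSup_of_mem ⟨B.comap (inr : A →* X), hidx'⟩ ⟨hg, ?_⟩
      refine (inl_mem_centralizer_iff φ _ g).mp ?_
      exact Subgroup.centralizer_le (SetLike.coe_subset_coe.mpr (Subgroup.map_comap_le _ B)) hxB)
  exact (Subgroup.map_le_map_iff_of_injective inl_injective).mp h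

/-- Solvability from rank three. -/
theorem isSolvable_of_Fix (hc : ∀ a b : A, a * b = b * a) (hexp : ∀ a : A, a ^ p = 1)
    (hp : ¬ p ∣ Nat.card G) (hA : p ^ 3 ≤ Nat.card A) (φ : A →* MulAut G)
    (hsol : ∀ a : A, a ≠ 1 → Group.IsSolvable ↥(Fix φ (Subgroup.zpowers a))) :
    Group.IsSolvable G := by
  set X := G ⋊[φ] A
  have hrange : (⊤ : Subgroup G).map (inl : G →* X) = (inl : G →* X).range :=
    (MonoidHom.range_eq_map _).symm
  have hnorm : (inr : A →* X).range ≤ Subgroup.normalizer (((inl : G →* X).range) : Set X) := by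
    rw [← hrange, MonoidHom.range_eq_map (inr : A →* X)]
    exact le_normalizer_map_inl φ (fun _ _ _ => Subgroup.mem_top _) ⊤
  have h : Group.IsSolvable ↥(inl : G →* X).range := by
    refine CfsgLib.SolvSig.isSolvable_of_forall_inf_centralizer (p := p)
      (A := (inr : A →* X).range) (isElementaryAbelian_range_inr φ hc hexp) ?_ hnorm ?_ ?_
    · rw [Nat.card_congr (MonoidHom.ofInjective inr_injective).toEquiv.symm]
      exact hA
    · rw [← hrange, card_map_inl, Subgroup.card_top]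
      exact hp
    · rintro _ ⟨a, rfl⟩ ha
      have ha1 : a ≠ 1 := fun h => ha (by rw [h, map_one])
      have hle : (inl : G →* X).range ⊓ Subgroup.centralizer ({(inr a : X)} : Set X) ≤
          (Fix φ (Subgroup.zpowers a)).map (inl : G →* X) := by
        intro x hx
        obtain ⟨⟨g, rfl⟩, hxa⟩ := Subgroup.mem_inf.mp hx
        refine ⟨g, (inl_mem_centralizer_iff φ _ g).mp ?_, rfl⟩
        rw [Subgroup.mem_centralizer_iff]
        rintro _ ⟨b, hb, rfl⟩
        obtain ⟨n, rfl⟩ := Subgroup.mem_zpowers_iff.mp hb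
        rw [map_zpow]
        have hcm : Commute (inr a : X) (inl g) :=
          Subgroup.mem_centralizer_iff.mp hxa _ (Set.mem_singleton _)
        exact (hcm.zpow_left n).eq
      have := hsol a ha1
      have : Group.IsSolvable ↥((Fix φ (Subgroup.zpowers a)).map (inl : G →* X)) :=
        Group.isSolvable_of_surjective (f := ((Fix φ (Subgroup.zpowers a)).equivMapOfInjective
          (inl : G →* X) inl_injective).toMonoidHom) (MulEquiv.surjective _)
      exact Group.isSolvable_of_isSolvable_injective (Subgroup.inclusion_injective hle)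
  exact Group.isSolvable_of_isSolvable_injective (f := (inl : G →* X).rangeRestrict)
    (MonoidHom.rangeRestrict_injective_iff.mpr inl_injective)

end CfsgLib.CoprimeClass
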