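import Cfsg.Agent.CoprimeClass.Graded

/-!
# The class bound from a family of subgroups

A nilpotent group `N` generated by a bounded family of invariant subgroups that is closed under
`⁅S, S'⁆ ⊓ Fix B`, each of whose members acts nilpotently on every `Fix B`, and whose fixed point
subgroup has bounded derived length, has bounded class.
-/

set_option autoImplicit false
set_option linter.unusedSectionVars false

open scoped TensorProduct commutatorElement

namespace CfsgLib.CoprimeClass

open CfsgLib.FpfClass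

variable {p : ℕ} {N : Type*} [Group N] {A : Type*} [Group A]

/-- The derived series of a subgroup, in the ambient group. -/
def gder (H : Subgroup N) : ℕ → Subgroup N
  | 0 => H
  | n + 1 => ⁅gder H n, gder H n⁆

/-- The properties of the generating family. -/
structure IsSpecialFamily {ι : Type*} (p c n₀ : ℕ) (φ : A →* MulAut N) (S : ι → Subgroup N) : Prop where
  invariant : ∀ i a, ∀ x ∈ S i, φ a x ∈ S i
  iSup_eq : ⨆ i, S i = ⊤
  closed : ∀ i j (B : Subgroup A), B.index ≤ p → ∃ l, ⁅S i, S j⁆ ⊓ Fix φ B ≤ S l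
  nil : ∀ i (B : Subgroup A), B.index ≤ p → ∃ D : Subgroup N,
    S i ≤ D ∧ ⁅Fix φ B, S i⁆ ≤ D ∧ D.lowerCentralSeries c = ⊥
  derived_fix : gder (Fix φ ⊤) n₀ = ⊥

/-- The bound for subgroups of index at most `p ^ i`. -/
def chainBound (p t m n₀ : ℕ) : ℕ → ℕ
  | 0 => collectBound t m n₀
  | i + 1 => chainBound p t m n₀ i + collectBound t m (krekninStep (chainBound p t m n₀ i) (p - 1))

theorem collectBound_mono {t t' : ℕ} (h : t ≤ t') (m : ℕ) :
    ∀ n, collectBound t m n ≤ collectBound t' m n
  | 0 => le_rfl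
  | n + 1 => Nat.mul_le_mul (collectBound_mono h m n)
      (Nat.add_le_add_right (Nat.mul_le_mul_right m h) 1)

variable {ι : Type*}

/-- The pieces. -/
noncomputable def piece (p : ℕ) (φ : A →* MulAut N) (S : ι → Subgroup N) (τ : ι × (A → ZMod p)) :
    AddSubgroup (ExtGr p N) :=
  ER p (S τ.1) ⊓ eigs p φ τ.2

variable [Fact p.Prime] [Finite A] [Finite N] {φ : A →* MulAut N} {S : ι → Subgroup N} {c n₀ : ℕ}

theorem commutator_invariant (hS : IsSpecialFamily p c n₀ φ S) (i j : ι) :
    ∀ a, ∀ x ∈ ⁅S i, S j⁆, φ a x ∈ ⁅S i, S j⁆ := by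
  intro a x hx
  have h : ⁅S i, S j⁆.map (φ a).toMonoidHom ≤ ⁅S i, S j⁆ := by
    rw [Subgroup.map_commutator]
    refine Subgroup.commutator_mono ?_ ?_ <;>
    · rintro _ ⟨y, hy, rfl⟩
      exact hS.invariant _ a y hy
  exact h ⟨x, hx, rfl⟩

theorem exists_brk_piece_le (hexp : ∀ a : A, a ^ p = 1) (hp : ¬ p ∣ Nat.card N) (hlift : Lifts φ)
    (hS : IsSpecialFamily p c n₀ φ S) (τ σ : ι × (A → ZMod p)) :
    ∃ l, brk (piece p φ S τ) (piece p φ S σ) ≤ piece p φ S l := by
  have h1 : brk (piece p φ S τ) (piece p φ S σ) ≤ ER p ⁅S τ.1, S σ.1⁆ :=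
    (brk_mono inf_le_left inf_le_left).trans (brk_ER_le _ _)
  have h2 : brk (piece p φ S τ) (piece p φ S σ) ≤ eigs p φ (τ.2 + σ.2) :=
    (brk_mono inf_le_right inf_le_right).trans (brk_eigs_le _ _)
  by_cases hadd : IsAdd (τ.2 + σ.2)
  · obtain ⟨l, hl⟩ := hS.closed τ.1 σ.1 (kerOf hadd) (index_kerOf_le hadd)
    refine ⟨(l, τ.2 + σ.2), le_inf ?_ h2⟩
    exact ((le_inf h1 (h2.trans (eigs_le_fixL hadd))).trans
      (ER_inf_fixL_le hexp hp hlift (commutator_invariant hS _ _) _)).trans (ER_mono hl)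
  · refine ⟨τ, h2.trans ?_⟩
    rw [eigs_eq_bot hp hadd]
    exact bot_le

/-- The Lie ring is spanned by the pieces. -/
theorem top_le_iSup_piece (hc : ∀ a b : A, a * b = b * a) (hexp : ∀ a : A, a ^ p = 1)
    (hp : ¬ p ∣ Nat.card N) (hlift : Lifts φ) (hS : IsSpecialFamily p c n₀ φ S) :
    (⊤ : AddSubgroup (ExtGr p N)) ≤ ⨆ τ, piece p φ S τ := by
  set T : AddSubgroup (ExtGr p N) := ⨆ τ, piece p φ S τ with hT
  have hER : ∀ i, ER p (S i) ≤ T := fun i =>
    (le_iSup_inf_eigs hc hexp hp (φ := φ) (ER p (S i))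
      (fun a x hx => extMap_mem_ER (hS.invariant i a) hx) fun r x hx => smul_mem_ER r hx).trans
      (iSup_le fun f => le_iSup (piece p φ S) (i, f))
  have hbrk : brk T T ≤ T := by
    refine brk_le fun x hx y hy => ?_
    induction hx using AddSubgroup.iSup_induction' with
    | h1 => rw [ext_zero_lie]; exact zero_mem _
    | hadd u v _ _ hu hv => rw [ext_add_lie]; exact add_mem hu hv
    | hp τ x hx =>
      induction hy using AddSubgroup.iSup_induction' with
      | h1 => rw [ext_lie_zero]; exact zero_mem _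
      | hadd u v _ _ hu hv => rw [ext_lie_add]; exact add_mem hu hv
      | hp σ y hy =>
        obtain ⟨l, hl⟩ := exists_brk_piece_le hexp hp hlift hS τ σ
        exact AddSubgroup.mem_iSup_of_mem l (hl (lie_mem_brk hx hy))
  have hdeg : ∀ i, ∀ g ∈ gam N i, ∀ r : CycRing p, r ⊗ₜ[ℤ] cl i g ∈ T := by
    intro i
    induction i with
    | zero =>
      intro g hg0 r
      clear hg0
      have hg : g ∈ ⨆ j, S j := by rw [hS.iSup_eq]; exact Subgroup.mem_top g
      induction hg using Subgroup.iSup_induction' with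
      | h1 => rw [cl_one, TensorProduct.tmul_zero]; exact zero_mem _
      | hmul u v _ _ hu hv =>
        rw [cl_mul 0 (Subgroup.mem_top u) (Subgroup.mem_top v), TensorProduct.tmul_add]
        exact add_mem hu hv
      | hp j x hx => exact hER j (tmul_cl_mem_ER r hx (Subgroup.mem_top x))
    | succ i ih =>
      intro g hg r
      have hg' : g ∈ ⁅gam N i, (⊤ : Subgroup N)⁆ := hg
      rw [Subgroup.commutator_def] at hg'
      clear hg
      induction hg' using Subgroup.closure_induction with
      | one => rw [cl_one, TensorProduct.tmul_zero]; exact zero_mem _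
      | mul a b ha hb iha ihb =>
        rw [cl_mul _ (by exact ha) (by exact hb), TensorProduct.tmul_add]
        exact add_mem iha ihb
      | inv a ha iha =>
        rw [cl_inv _ (by exact ha), TensorProduct.tmul_neg]
        exact neg_mem iha
      | mem g hg' =>
        obtain ⟨x, hx, y, -, rfl⟩ := hg'
        have h := hbrk (lie_mem_brk (ih x hx r) (show (1 : CycRing p) ⊗ₜ[ℤ] cl 0 y ∈ T from by
          have h0 : ∀ s : CycRing p, s ⊗ₜ[ℤ] cl 0 y ∈ T := by
            intro s
            have hy : y ∈ ⨆ j, S j := by rw [hS.iSup_eq]; exact Subgroup.mem_top y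
            induction hy using Subgroup.iSup_induction' with
            | h1 => rw [cl_one, TensorProduct.tmul_zero]; exact zero_mem _
            | hmul u v _ _ hu hv =>
              rw [cl_mul 0 (Subgroup.mem_top u) (Subgroup.mem_top v), TensorProduct.tmul_add]
              exact add_mem hu hv
            | hp j z hz => exact hER j (tmul_cl_mem_ER s hz (Subgroup.mem_top z))
          exact h0 1))
        rwa [LieAlgebra.ExtendScalars.bracket_tmul, mul_one, lie_cl hx (Subgroup.mem_top y)] at h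
  intro x hx
  clear hx
  induction x using TensorProduct.induction_on with
  | zero => exact zero_mem _
  | tmul r a =>
    induction a using gr_induction with
    | h0 => rw [TensorProduct.tmul_zero]; exact zero_mem _
    | hcl i g hg => exact hdeg i g hg r
    | hadd u v hu hv => rw [TensorProduct.tmul_add]; exact add_mem hu hv
  | add u v hu hv => exact add_mem hu hv

theorem fixL_le_iSup_piece (hc : ∀ a b : A, a * b = b * a) (hexp : ∀ a : A, a ^ p = 1)
    (hp : ¬ p ∣ Nat.card N) (hlift : Lifts φ) (hS : IsSpecialFamily p c n₀ φ S) (B : Subgroup A) :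
    fixL p φ B ≤ ⨆ τ, fixL p φ B ⊓ piece p φ S τ := by
  intro x hx
  obtain ⟨d, hd⟩ := exists_inv_nsmul (p := p) (coprime_card_subgroup hexp hp B) (N := N)
  rw [← hd x]
  refine nsmul_mem ?_ d
  rw [← avg_eq_nsmul hx]
  have hx' := top_le_iSup_piece hc hexp hp hlift hS (AddSubgroup.mem_top x)
  clear hx hd
  induction hx' using AddSubgroup.iSup_induction' with
  | h1 => rw [avg_zero]; exact zero_mem _
  | hadd u v _ _ hu hv => rw [avg_add]; exact add_mem hu hv
  | hp τ x hx =>
    refine AddSubgroup.mem_iSup_of_mem τ (AddSubgroup.mem_inf.mpr ⟨avg_mem_fixL φ B x, ?_⟩)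
    obtain ⟨h1, h2⟩ := AddSubgroup.mem_inf.mp hx
    refine AddSubgroup.mem_inf.mpr ⟨?_, ?_⟩
    · exact AddSubgroup.sum_mem _ fun b _ => extMap_mem_ER (hS.invariant _ _) h1
    · refine AddSubgroup.sum_mem _ fun b _ => ?_
      rw [mem_eigs.mp h2]
      exact smul_mem_eigs _ h2

theorem iterB_iSup_le {L : Type*} [LieRing L] {κ : Type*} (A' : AddSubgroup L) (V : κ → AddSubgroup L) :
    ∀ n, iterB A' (⨆ k, V k) n ≤ ⨆ k, iterB A' (V k) n
  | 0 => le_rfl
  | n + 1 => (brk_mono (iterB_iSup_le A' V n) le_rfl).trans (brk_iSup_left _ _)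

/-- Each piece is nil. -/
theorem iterB_piece (hc : ∀ a b : A, a * b = b * a) (hexp : ∀ a : A, a ^ p = 1)
    (hp : ¬ p ∣ Nat.card N) (hlift : Lifts φ) (hS : IsSpecialFamily p c n₀ φ S)
    (τ : ι × (A → ZMod p)) : iterB (piece p φ S τ) ⊤ (c + 1) = ⊥ := by
  have hdec : (⊤ : AddSubgroup (ExtGr p N)) ≤ ⨆ f, eigs p φ f :=
    (le_iSup_inf_eigs hc hexp hp ⊤ (fun _ _ _ => AddSubgroup.mem_top _)
      fun _ _ _ => AddSubgroup.mem_top _).trans (iSup_mono fun _ => inf_le_right)
  refine le_bot_iff.mp (((iterB_mono inf_le_left hdec _).trans (iterB_iSup_le _ _ _)).trans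
    (iSup_le fun f => ?_))
  by_cases hf : IsAdd f
  · obtain ⟨D, hD1, hD2, hD3⟩ := hS.nil τ.1 (kerOf hf) (index_kerOf_le hf)
    have hE : eigs p φ f ≤ ER p (Fix φ (kerOf hf)) :=
      ((le_inf (le_top.trans top_le_ER) (eigs_le_fixL hf)).trans
        (ER_inf_fixL_le hexp hp hlift (fun _ _ _ => Subgroup.mem_top _) _)).trans (ER_mono inf_le_right)
    refine (iterB_mono le_rfl hE _).trans ?_
    suffices h : ∀ n, iterB (ER p (S τ.1)) (ER p (Fix φ (kerOf hf))) (n + 1) ≤
        ER p (D.lowerCentralSeries n) by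
      refine (h c).trans ?_
      rw [hD3, ER_bot]
    intro n
    induction n with
    | zero => exact (brk_ER_le _ _).trans (ER_mono hD2)
    | succ n ih =>
      exact ((brk_mono ih le_rfl).trans (brk_ER_le _ _)).trans
        (ER_mono (Subgroup.commutator_mono le_rfl hD1))
  · rw [eigs_eq_bot hp hf, iterB_bot_right]

theorem dser_fixL_top_le (hexp : ∀ a : A, a ^ p = 1) (hp : ¬ p ∣ Nat.card N) (hlift : Lifts φ) :
    ∀ r, dser (fixL p φ (⊤ : Subgroup A)) r ≤ ER p (gder (Fix φ ⊤) r)
  | 0 => ((le_inf (le_top.trans top_le_ER) le_rfl).trans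
      (ER_inf_fixL_le hexp hp hlift (fun _ _ _ => Subgroup.mem_top _) _)).trans (ER_mono inf_le_right)
  | r + 1 => (brk_mono (dser_fixL_top_le hexp hp hlift r) (dser_fixL_top_le hexp hp hlift r)).trans
      (brk_ER_le _ _)

/-- One step down: a cyclic grading with nilpotently acting zero component. -/
theorem dser_fixL_eq_bot (hc : ∀ a b : A, a * b = b * a) (hexp : ∀ a : A, a ^ p = 1)
    (hp : ¬ p ∣ Nat.card N) (B : Subgroup A) (a : A) (ν : ℕ)
    (hν : iterB (fixL p φ (B ⊔ Subgroup.zpowers a)) ⊤ ν = ⊥) :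
    dser (fixL p φ B) (krekninStep ν (p - 1)) = ⊥ := by
  haveI : NeZero p := ⟨(Fact.out : p.Prime).ne_zero⟩
  set M : ZMod p → AddSubgroup (ExtGr p N) := fun d => fixL p φ B ⊓ eig p (φ a) d with hM
  have hclosed : Closed M := by
    intro d e x hx y hy
    refine AddSubgroup.mem_inf.mpr ⟨brk_fixL_le B (lie_mem_brk hx.1 hy.1), ?_⟩
    show extMap p (φ a) ⁅x, y⁆ = rootPow p (d + e) • ⁅x, y⁆
    rw [extMap_lie, show extMap p (φ a) x = _ from hx.2, show extMap p (φ a) y = _ from hy.2,
      ext_smul_lie, rootPow_add]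
  have hM0 : M 0 ≤ fixL p φ (B ⊔ Subgroup.zpowers a) := by
    intro x hx
    have hle : B ⊔ Subgroup.zpowers a ≤
        { carrier := {b | extMap p (φ b) x = x}
          one_mem' := show extMap p (φ 1) x = x by rw [map_one, extMap_one]
          mul_mem' := fun {u v} hu hv => show extMap p (φ (u * v)) x = x by
            rw [map_mul, ← extMap_extMap, show extMap p (φ v) x = x from hv]; exact hu
          inv_mem' := fun {u} hu => show extMap p (φ u⁻¹) x = x by
            conv_lhs => rw [← show extMap p (φ u) x = x from hu]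
            rw [extMap_extMap, ← map_mul, inv_mul_cancel, map_one, extMap_one] : Subgroup A } := by
      refine sup_le (fun b hb => hx.1 b hb) (Subgroup.zpowers_le.mpr ?_)
      show extMap p (φ a) x = x
      rw [show extMap p (φ a) x = _ from hx.2, rootPow_zero, one_smul]
    exact fun b hb => hle hb
  have hnil : ∀ d, zeroIter M d ν = ⊥ := by
    intro d
    refine le_bot_iff.mp (le_trans ?_ hν.le)
    suffices h : ∀ j, zeroIter M d j ≤ iterB (fixL p φ (B ⊔ Subgroup.zpowers a)) ⊤ j from h ν
    intro j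
    induction j with
    | zero => exact le_top
    | succ j ih =>
      refine (AddSubgroup.closure_le _).mpr ?_
      rintro _ ⟨x, hx, z, hz, rfl⟩
      exact lie_mem_brk (ih hx) (hM0 hz)
  have key : ∀ r, dser (fixL p φ B) r ≤ ⨆ d, derived M r d := by
    intro r
    induction r with
    | zero =>
      intro x hx
      obtain ⟨c, hcc⟩ := exists_inv_nsmul (p := p) ((Fact.out : p.Prime).coprime_iff_not_dvd.mpr hp)
        (N := N)
      rw [← hcc x]
      refine nsmul_mem ?_ c
      rw [← sum_proj (φ a) x]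
      refine AddSubgroup.sum_mem _ fun d _ => AddSubgroup.mem_iSup_of_mem d
        (AddSubgroup.mem_inf.mpr ⟨?_, proj_mem _ (by rw [← map_pow, hexp, map_one]) d x⟩)
      refine AddSubgroup.sum_mem _ fun k _ => smul_mem_fixL _ ?_
      rw [← map_pow]
      exact extMap_mem_fixL hc _ hx
    | succ r ih =>
      refine brk_le fun x hx y hy => ?_
      have hx' := ih hx
      have hy' := ih hy
      clear hx hy
      induction hx' using AddSubgroup.iSup_induction' with
      | h1 => rw [ext_zero_lie]; exact zero_mem _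
      | hadd u v _ _ hu hv => rw [ext_add_lie]; exact add_mem hu hv
      | hp d x hx =>
        induction hy' using AddSubgroup.iSup_induction' with
        | h1 => rw [ext_lie_zero]; exact zero_mem _
        | hadd u v _ _ hu hv => rw [ext_lie_add]; exact add_mem hu hv
        | hp e y hy => exact AddSubgroup.mem_iSup_of_mem (d + e) (lie_mem_br hx hy)
  refine le_bot_iff.mp ((key _).trans (iSup_le fun d => ?_))
  rw [derived_eq_bot_of_nil hclosed ν hnil d]

/-- The main induction. -/
theorem iterB_fixL (hc : ∀ a b : A, a * b = b * a) (hexp : ∀ a : A, a ^ p = 1)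
    (hp : ¬ p ∣ Nat.card N) (hlift : Lifts φ) (hS : IsSpecialFamily p c n₀ φ S) [Fintype ι] {t : ℕ}
    (ht : Fintype.card ι * p ^ Nat.card A ≤ t) : ∀ i (B : Subgroup A), B.index ≤ p ^ i →
    iterB (fixL p φ B) ⊤ (chainBound p t (c + 1) n₀ i) = ⊥ := by
  classical
  haveI : NeZero p := ⟨(Fact.out : p.Prime).ne_zero⟩
  haveI := Fintype.ofFinite A
  have hcard : Fintype.card (ι × (A → ZMod p)) ≤ t := by
    rwa [Fintype.card_prod, Fintype.card_fun, ZMod.card, ← Nat.card_eq_fintype_card (α := A)]
  have hcollect : ∀ (B : Subgroup A) (n : ℕ), dser (fixL p φ B) n = ⊥ →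
      iterB (fixL p φ B) ⊤ (collectBound t (c + 1) n) = ⊥ := by
    intro B n hn
    refine iterB_eq_bot_of_le (collectBound_mono hcard _ n) ?_
    exact soluble_spanned_iterB (piece p φ S) (iterB_piece hc hexp hp hlift hS) n _ (brk_fixL_le B)
      (dser_spanned _ (brk_fixL_le B) (exists_brk_piece_le hexp hp hlift hS)
        (fixL_le_iSup_piece hc hexp hp hlift hS B)) hn
  intro i
  induction i with
  | zero =>
    intro B hB
    have hB1 : B.index = 1 := le_antisymm (by simpa using hB)
      (Nat.one_le_iff_ne_zero.mpr Subgroup.index_ne_zero_of_finite)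
    rw [Subgroup.index_eq_one.mp hB1]
    refine hcollect ⊤ n₀ (le_bot_iff.mp ((dser_fixL_top_le hexp hp hlift n₀).trans ?_))
    rw [hS.derived_fix, ER_bot]
  | succ i ih =>
    intro B hB
    by_cases hBtop : B = ⊤
    · exact iterB_eq_bot_of_le (Nat.le_add_right _ _)
        (ih B (by rw [hBtop, Subgroup.index_top]; exact Nat.one_le_pow _ _ (Fact.out : p.Prime).pos))
    obtain ⟨a, -, ha⟩ := SetLike.exists_of_lt (lt_top_iff_ne_top.mpr hBtop)
    set B' := B ⊔ Subgroup.zpowers a with hB'
    have hle : B ≤ B' := le_sup_left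
    have hmul := Subgroup.relIndex_mul_index hle
    have hne : B.relIndex B' ≠ 1 := fun h => ha (Subgroup.relIndex_eq_one.mp h
      (Subgroup.mem_sup_right (Subgroup.mem_zpowers a)))
    obtain ⟨n, hn⟩ := IsPGroup.iff_card.mp
      (show IsPGroup p A from fun b => ⟨1, by rw [pow_one]; exact hexp b⟩)
    have hdvd : B.relIndex B' ∣ p ^ n :=
      (Dvd.intro _ hmul).trans (hn ▸ B.index_dvd_card)
    obtain ⟨k, -, hk⟩ := (Nat.dvd_prime_pow Fact.out).mp hdvd
    have hk0 : k ≠ 0 := fun h => hne (by rw [hk, h, pow_zero])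
    have hindex : B'.index ≤ p ^ i := by
      have hpk : p ≤ B.relIndex B' := hk ▸ Nat.le_self_pow hk0 p
      have h2 : p * B'.index ≤ p * p ^ i := by
        rw [← pow_succ']
        exact le_trans (le_trans (Nat.mul_le_mul_right _ hpk) hmul.le) hB
      exact Nat.le_of_mul_le_mul_left h2 (Fact.out : p.Prime).pos
    exact iterB_eq_bot_of_le (Nat.le_add_left _ _)
      (hcollect B _ (dser_fixL_eq_bot hc hexp hp B a _ (ih B' hindex)))

/-- The class bound. -/
theorem lowerCentralSeries_eq_bot_of_family (hc : ∀ a b : A, a * b = b * a)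
    (hexp : ∀ a : A, a ^ p = 1) (hp : ¬ p ∣ Nat.card N) (hlift : Lifts φ)
    (hS : IsSpecialFamily p c n₀ φ S) [Fintype ι] {t k : ℕ} (hA : Nat.card A = p ^ k)
    (ht : Fintype.card ι * p ^ p ^ k ≤ t) (hN : Group.IsNilpotent N) :
    (⊤ : Subgroup N).lowerCentralSeries (chainBound p t (c + 1) n₀ k) = ⊥ := by
  set m := chainBound p t (c + 1) n₀ k with hm
  have h0 : iterB (⊤ : AddSubgroup (ExtGr p N)) ⊤ m = ⊥ := by
    refine le_bot_iff.mp ((iterB_mono (fixL_bot φ) le_rfl m).trans ?_)
    exact (iterB_fixL hc hexp hp hlift hS (by rw [hA]; exact ht) k ⊥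
      (by rw [Subgroup.index_bot, hA])).le
  have hmem : ∀ i, ∀ g ∈ gam N i,
      (1 : CycRing p) ⊗ₜ[ℤ] cl i g ∈ iterB (⊤ : AddSubgroup (ExtGr p N)) ⊤ i := by
    intro i
    induction i with
    | zero => exact fun g _ => AddSubgroup.mem_top _
    | succ i ih =>
      intro g hg
      have hg' : g ∈ ⁅gam N i, (⊤ : Subgroup N)⁆ := hg
      rw [Subgroup.commutator_def] at hg'
      clear hg
      induction hg' using Subgroup.closure_induction with
      | one => rw [cl_one, TensorProduct.tmul_zero]; exact zero_mem _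
      | mul a b ha hb iha ihb =>
        rw [cl_mul _ (by exact ha) (by exact hb), TensorProduct.tmul_add]
        exact add_mem iha ihb
      | inv a ha iha =>
        rw [cl_inv _ (by exact ha), TensorProduct.tmul_neg]
        exact neg_mem iha
      | mem g hg' =>
        obtain ⟨x, hx, y, -, rfl⟩ := hg'
        have h := lie_mem_brk (ih x hx)
          (AddSubgroup.mem_top ((1 : CycRing p) ⊗ₜ[ℤ] cl 0 y))
        rwa [LieAlgebra.ExtendScalars.bracket_tmul, one_mul, lie_cl hx (Subgroup.mem_top y)] at h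
  have hstab : gam N m ≤ gam N (m + 1) := by
    intro g hg
    rw [← cl_eq_zero_iff m hg]
    have h1 : (1 : CycRing p) ⊗ₜ[ℤ] cl m g = 0 := AddSubgroup.mem_bot.mp (h0 ▸ hmem m g hg)
    have hmon : (Polynomial.cyclotomic p ℤ).Monic := Polynomial.cyclotomic.monic p ℤ
    let ψ : CycRing p →ₗ[ℤ] ℤ := (Polynomial.lcoeff ℤ 0).comp (AdjoinRoot.modByMonicHom hmon)
    have hψ : ψ 1 = 1 := by
      show (AdjoinRoot.modByMonicHom hmon 1).coeff 0 = 1
      rw [show (1 : CycRing p) = AdjoinRoot.mk (Polynomial.cyclotomic p ℤ) 1 from (map_one _).symm,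
        AdjoinRoot.modByMonicHom_mk,
        (Polynomial.modByMonic_eq_self_iff hmon).mpr (by
          rw [Polynomial.degree_one, Polynomial.degree_cyclotomic]
          exact_mod_cast Nat.totient_pos.mpr (Fact.out : p.Prime).pos), Polynomial.coeff_one_zero]
    have h2 := congrArg ((TensorProduct.lid ℤ (Gr N)).toLinearMap ∘ₗ ψ.rTensor (Gr N)) h1
    simpa [hψ] using h2
  obtain ⟨e, he⟩ := Subgroup.nilpotent_iff_lowerCentralSeries.mp hN
  have hall : ∀ j, gam N m ≤ gam N (m + j) := by
    intro j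
    induction j with
    | zero => exact le_rfl
    | succ j ih =>
      calc gam N m ≤ gam N (m + 1) := hstab
        _ = ⁅gam N m, (⊤ : Subgroup N)⁆ := rfl
        _ ≤ ⁅gam N (m + j), (⊤ : Subgroup N)⁆ := Subgroup.commutator_mono ih le_rfl
        _ = gam N (m + (j + 1)) := rfl
  exact le_bot_iff.mp (((hall e).trans (gam_anti (Nat.le_add_left e m))).trans he.le)

end CfsgLib.CoprimeClass
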