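import Mathlib.GroupTheory.Nilpotent
import Mathlib.GroupTheory.Solvable
import Mathlib.GroupTheory.PGroup
import Mathlib.GroupTheory.Sylow
import Mathlib.Tactic.Group

/-!
# A solvable finite group generated by left Engel elements is nilpotent

Also a criterion: it is enough that the elements act nilpotently on the fixed points of subgroups
generating every invariant subgroup.
-/

set_option autoImplicit false

open scoped commutatorElement

namespace CfsgLib.CoprimeClass

universe u

/-- `[x, t, …, t]`. -/
def engel {N : Type*} [Group N] (x t : N) : ℕ → N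
  | 0 => x
  | n + 1 => ⁅engel x t n, t⁆

section Basic

variable {N : Type*} [Group N]

theorem engel_add (x t : N) (m : ℕ) : ∀ n, engel x t (m + n) = engel (engel x t m) t n
  | 0 => rfl
  | n + 1 => by
    show ⁅engel x t (m + n), t⁆ = _
    rw [engel_add x t m n]
    rfl

theorem engel_one (t : N) : ∀ n, engel (1 : N) t n = 1
  | 0 => rfl
  | n + 1 => by
    show ⁅engel 1 t n, t⁆ = 1
    rw [engel_one t n, commutatorElement_one_left]

theorem map_engel {Q : Type*} [Group Q] (f : N →* Q) (x t : N) :
    ∀ n, f (engel x t n) = engel (f x) (f t) n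
  | 0 => rfl
  | n + 1 => by
    show f ⁅engel x t n, t⁆ = _
    rw [map_commutatorElement, map_engel f x t n]
    rfl

theorem engel_mem {H : Subgroup N} [H.Normal] {x : N} (hx : x ∈ H) (t : N) :
    ∀ n, engel x t n ∈ H
  | 0 => hx
  | n + 1 => by
    show ⁅engel x t n, t⁆ ∈ H
    rw [commutatorElement_def, mul_assoc, mul_assoc, ← mul_assoc t]
    exact H.mul_mem (engel_mem hx t n) (Subgroup.Normal.conj_mem inferInstance _ (H.inv_mem (engel_mem hx t n)) t)

theorem engel_mul {H : Subgroup N} [H.Normal] (hH : ∀ a ∈ H, ∀ b ∈ H, a * b = b * a) {x y : N}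
    (hx : x ∈ H) (hy : y ∈ H) (t : N) : ∀ n, engel (x * y) t n = engel x t n * engel y t n
  | 0 => rfl
  | n + 1 => by
    show ⁅engel (x * y) t n, t⁆ = _
    rw [engel_mul hH hx hy t n]
    show ⁅engel x t n * engel y t n, t⁆ = ⁅engel x t n, t⁆ * ⁅engel y t n, t⁆
    have h1 : engel x t n ∈ H := engel_mem hx t n
    have h2 : ⁅engel x t n, t⁆ ∈ H := engel_mem hx t (n + 1)
    have h3 : ⁅engel y t n, t⁆ ∈ H := engel_mem hy t (n + 1)
    rw [hH _ h2 _ h3]
    have h4 : ⁅engel x t n * engel y t n, t⁆ =
        engel x t n * ⁅engel y t n, t⁆ * (engel x t n)⁻¹ * ⁅engel x t n, t⁆ := by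
      simp only [commutatorElement_def]; group
    rw [h4, hH _ h1 _ h3, mul_inv_cancel_right]

end Basic

theorem isNilpotent_of_engel_aux (n : ℕ) : ∀ (N : Type u) [Group N] [Finite N], Nat.card N ≤ n →
    Group.IsSolvable N → ∀ T : Set N, Subgroup.closure T = ⊤ →
    (∀ t ∈ T, ∀ x, ∃ m, engel x t m = 1) → Group.IsNilpotent N := by
  induction n with
  | zero =>
    intro N _ _ hN
    have h : 0 < Nat.card N := Nat.card_pos
    omega
  | succ n ih =>
    intro N _ _ hN hsolv T hT hE
    rcases subsingleton_or_nontrivial N with hs | hnt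
    · infer_instance
    haveI := hsolv
    have himage : ∀ (H : Subgroup N) [H.Normal], H ≠ ⊥ → Group.IsNilpotent (N ⧸ H) := by
      intro H _ hH
      refine ih (N ⧸ H) ?_ (Group.isSolvable_of_surjective (f := QuotientGroup.mk' H)
        (QuotientGroup.mk'_surjective H)) ((QuotientGroup.mk' H) '' T) ?_ ?_
      · have h1 : 2 ≤ Nat.card ↥H := (Subgroup.one_lt_card_iff_ne_bot H).mpr hH
        have h2 := H.card_eq_card_quotient_mul_card_subgroup
        have h3 : 0 < Nat.card (N ⧸ H) := Nat.card_pos
        have h4 : Nat.card (N ⧸ H) * 2 ≤ Nat.card (N ⧸ H) * Nat.card ↥H := Nat.mul_le_mul_left _ h1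
        omega
      · rw [← MonoidHom.map_closure, hT, Subgroup.map_top_of_surjective _ (QuotientGroup.mk'_surjective H)]
      · rintro _ ⟨t, ht, rfl⟩ x
        obtain ⟨x, rfl⟩ := QuotientGroup.mk'_surjective H x
        obtain ⟨m, hm⟩ := hE t ht x
        exact ⟨m, by rw [← map_engel, hm, map_one]⟩
    -- an elementary abelian normal subgroup
    obtain ⟨i, hi, hi'⟩ : ∃ i, derivedSeries N i ≠ ⊥ ∧ derivedSeries N (i + 1) = ⊥ := by
      obtain ⟨e, he⟩ := (Group.isSolvable_def N).mp hsolv
      classical
      have hex : ∃ e, derivedSeries N e = ⊥ := ⟨e, he⟩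
      obtain ⟨i, hi⟩ : ∃ i, Nat.find hex = i + 1 := by
        rcases Nat.eq_zero_or_pos (Nat.find hex) with h0 | h0
        · exfalso
          have := Nat.find_spec hex
          rw [h0, derivedSeries_zero] at this
          exact top_ne_bot this
        · exact ⟨Nat.find hex - 1, by omega⟩
      exact ⟨i, Nat.find_min hex (by omega), hi ▸ Nat.find_spec hex⟩
    have hcomm : ∀ a ∈ derivedSeries N i, ∀ b ∈ derivedSeries N i, a * b = b * a := by
      intro a ha b hb
      have h : ⁅a, b⁆ ∈ derivedSeries N (i + 1) := Subgroup.commutator_mem_commutator ha hb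
      rw [hi', Subgroup.mem_bot] at h
      exact commutatorElement_eq_one_iff_mul_comm.mp h
    obtain ⟨q, hq, hqd⟩ := Nat.exists_prime_and_dvd
      (show Nat.card ↥(derivedSeries N i) ≠ 1 from fun h => hi (Subgroup.card_eq_one.mp h))
    haveI : Fact q.Prime := ⟨hq⟩
    let M : Subgroup N :=
      { carrier := {x | x ∈ derivedSeries N i ∧ x ^ q = 1}
        one_mem' := ⟨one_mem _, one_pow q⟩
        mul_mem' := fun {a b} ha hb => ⟨mul_mem ha.1 hb.1, by
          rw [(show Commute a b from hcomm a ha.1 b hb.1).mul_pow, ha.2, hb.2, one_mul]⟩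
        inv_mem' := fun {a} ha => ⟨inv_mem ha.1, by rw [inv_pow, ha.2, inv_one]⟩ }
    haveI hMn : M.Normal := ⟨fun a ha g => ⟨(derivedSeries_normal N i).conj_mem a ha.1 g, by
      rw [conj_pow, ha.2, mul_one, mul_inv_cancel]⟩⟩
    have hMne : M ≠ ⊥ := by
      obtain ⟨x, hx⟩ := exists_prime_orderOf_dvd_card' q hqd
      intro hb
      have hxM : (x : N) ∈ M := ⟨x.2, by
        rw [← Subgroup.coe_pow, ← hx, pow_orderOf_eq_one, Subgroup.coe_one]⟩
      rw [hb, Subgroup.mem_bot] at hxM
      rw [show x = 1 from Subtype.ext hxM, orderOf_one] at hx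
      exact hq.one_lt.ne hx
    have hMcomm : ∀ a ∈ M, ∀ b ∈ M, a * b = b * a := fun a ha b hb => hcomm a ha.1 b hb.1
    let ψ : N →* MulAut ↥M := MulAut.conjNormal
    -- the image is nilpotent
    have hker : M ≤ ψ.ker := by
      intro m hm
      rw [MonoidHom.mem_ker]
      ext x
      show ((MulAut.conjNormal m x : ↥M) : N) = x
      rw [MulAut.conjNormal_apply, hMcomm m hm x x.2, mul_inv_cancel_right]
    haveI := himage M hMne
    have hR : Group.IsNilpotent ↥ψ.range := by
      let f : N ⧸ M →* ↥ψ.range := QuotientGroup.lift M ψ.rangeRestrict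
        (fun m hm => by rw [MonoidHom.mem_ker]; exact Subtype.ext (hker hm))
      exact Group.nilpotent_of_surjective f fun y => by
        obtain ⟨_, g, rfl⟩ := y
        exact ⟨(g : N ⧸ M), rfl⟩
    -- the generators act as q-elements
    have hord : ∀ t ∈ T, ∃ e, ψ t ^ q ^ e = 1 := by
      intro t ht
      have hd : ∀ (m : ℕ) (x : ↥M), engel (x : N) t m = 1 → (ψ t ^ q ^ m) x = x := by
        intro m
        induction m with
        | zero =>
          intro x hx
          have hx1 : x = 1 := Subtype.ext hx
          rw [hx1, map_one]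
        | succ m ihm =>
          intro x hx
          set θ := ψ t ^ q ^ m with hθ
          -- the fixed point property for `x⁻¹ * θ x`
          set z : ↥M := x⁻¹ * θ x with hz
          have hzfix : θ z = z := by
            refine ihm z ?_
            have hmM : ∀ w : ↥M, (w : N) ∈ M := fun w => w.2
            rw [hz, Subgroup.coe_mul, engel_mul hMcomm (hmM _) (hmM _)]
            set u : N := engel (x : N) t m with hu
            have hu1 : ⁅u, t⁆ = 1 := hx
            have huM : u ∈ M := engel_mem x.2 t m
            have hθu : θ ⟨u, huM⟩ = ⟨u, huM⟩ := by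
              have hfix : ψ t ⟨u, huM⟩ = ⟨u, huM⟩ := Subtype.ext (by
                show t * u * t⁻¹ = u
                rw [← commutatorElement_eq_one_iff_mul_comm.mp hu1, mul_inv_cancel_right])
              rw [hθ]
              generalize q ^ m = r
              induction r with
              | zero => rfl
              | succ r ihr => rw [pow_succ, MulAut.mul_apply, hfix, ihr]
            have hpow : ∀ r : ℕ, ((ψ t ^ r) x : N) = t ^ r * x * (t ^ r)⁻¹ := by
              intro r
              rw [← map_pow]
              exact MulAut.conjNormal_apply _ _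
            have hnat : engel ((θ x : ↥M) : N) t m = t ^ q ^ m * u * (t ^ q ^ m)⁻¹ := by
              rw [hθ, hpow, hu]
              have h := map_engel (MulAut.conj (t ^ q ^ m)).toMonoidHom (x : N) t m
              simp only [MulEquiv.coe_toMonoidHom, MulAut.conj_apply] at h
              rw [h, show t ^ q ^ m * t * (t ^ q ^ m)⁻¹ = t by
                rw [(Commute.pow_self t (q ^ m)).eq, mul_inv_cancel_right]]
            have hinv : engel ((x⁻¹ : ↥M) : N) t m = u⁻¹ := by
              apply eq_inv_of_mul_eq_one_left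
              rw [hu, ← engel_mul hMcomm (hmM _) (hmM _), Subgroup.coe_inv, inv_mul_cancel, engel_one]
            have hu2 : t ^ q ^ m * u * (t ^ q ^ m)⁻¹ = u := by
              have h := congrArg Subtype.val hθu
              rw [hθ, ← map_pow] at h
              exact (MulAut.conjNormal_apply _ _).symm.trans h
            rw [hnat, hu2, hinv, inv_mul_cancel]
          have hstep : ∀ j : ℕ, (θ ^ j) x = x * z ^ j := by
            intro j
            induction j with
            | zero => rw [pow_zero, pow_zero, mul_one]; rfl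
            | succ j ihj =>
              rw [pow_succ', MulAut.mul_apply, ihj, map_mul, map_pow, hzfix, pow_succ', ← mul_assoc]
              congr 1
              rw [hz, mul_inv_cancel_left]
          rw [pow_succ, pow_mul, hstep q, show z ^ q = 1 from Subtype.ext z.2.2, mul_one]
      choose e he using fun x : ↥M => hE t ht (x : N)
      haveI := Fintype.ofFinite ↥M
      refine ⟨(Finset.univ : Finset ↥M).sup e, ?_⟩
      apply MulEquiv.ext
      intro x
      refine hd _ x ?_
      obtain ⟨k, hk⟩ := Nat.exists_eq_add_of_le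
        (Finset.le_sup (f := e) (Finset.mem_univ x))
      rw [hk, engel_add, he x, engel_one]
    -- the image is a q-group
    have hRq : IsPGroup q ↥ψ.range := by
      obtain ⟨P⟩ := (inferInstance : Nonempty (Sylow q ↥ψ.range))
      haveI := hR
      have hall : ∀ g : N, ψ.rangeRestrict g ∈ (P : Subgroup ↥ψ.range) := by
        intro g
        have hg : g ∈ Subgroup.closure T := by rw [hT]; exact Subgroup.mem_top g
        induction hg using Subgroup.closure_induction with
        | one => rw [map_one]; exact one_mem _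
        | mul a b _ _ ha hb => rw [map_mul]; exact mul_mem ha hb
        | inv a _ ha => rw [map_inv]; exact inv_mem ha
        | mem t ht =>
          obtain ⟨e, he⟩ := hord t ht
          set w := ψ.rangeRestrict t with hw
          have hpg : IsPGroup q ↥(Subgroup.zpowers w) := by
            rintro ⟨y, k, rfl⟩
            refine ⟨e, Subtype.ext ?_⟩
            show (w ^ k) ^ q ^ e = 1
            have hwe : w ^ q ^ e = 1 := Subtype.ext he
            rw [← zpow_natCast, ← zpow_mul, mul_comm, zpow_mul, zpow_natCast, hwe, one_zpow]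
          obtain ⟨Q, hQ⟩ := hpg.exists_le_sylow
          letI := Sylow.unique_of_normal P inferInstance
          rw [Subsingleton.elim Q P] at hQ
          exact hQ (Subgroup.mem_zpowers w)
      intro y
      obtain ⟨g, hg⟩ := ψ.rangeRestrict_surjective y
      obtain ⟨k, hk⟩ := P.isPGroup' ⟨y, hg ▸ hall g⟩
      exact ⟨k, congrArg Subtype.val hk⟩
    have hdvd : q ∣ Nat.card ↥M := by
      haveI : Nontrivial ↥M := M.nontrivial_iff_ne_bot.mpr hMne
      obtain ⟨k, hk0, hk⟩ := (IsPGroup.nontrivial_iff_card
        (show IsPGroup q ↥M from fun x => ⟨1, Subtype.ext (by simpa using x.2.2)⟩)).mp inferInstance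
      exact hk ▸ dvd_pow_self q hk0.ne'
    obtain ⟨y, hy, hy1⟩ := hRq.exists_fixed_point_of_prime_dvd_card_of_fixed_point (α := ↥M) hdvd
      (a := 1) (fun β => map_one (β : MulAut ↥M))
    have hcen : (y : N) ∈ Subgroup.center N := Subgroup.mem_center_iff.mpr fun g => by
      have h1 : ((MulAut.conjNormal g y : ↥M) : N) = y := congrArg Subtype.val (hy ⟨ψ g, g, rfl⟩)
      rw [MulAut.conjNormal_apply] at h1
      calc g * (y : N) = g * y * g⁻¹ * g := by group
        _ = y * g := by rw [h1]
    have hcne : Subgroup.center N ≠ ⊥ := fun h => hy1 (Subtype.ext (by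
      rw [h, Subgroup.mem_bot] at hcen
      exact hcen.symm))
    exact Group.of_quotient_center_nilpotent (himage _ hcne)

theorem isNilpotent_of_engel {N : Type u} [Group N] [Finite N] (hs : Group.IsSolvable N) (T : Set N)
    (hT : Subgroup.closure T = ⊤) (hE : ∀ t ∈ T, ∀ x, ∃ m, engel x t m = 1) :
    Group.IsNilpotent N :=
  isNilpotent_of_engel_aux _ N le_rfl hs T hT hE

/-- A solvable group is nilpotent if each generator acts nilpotently on enough fixed points. -/
theorem isNilpotent_of_generation {N : Type u} [Group N] [Finite N] (hs : Group.IsSolvable N)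
    {ι κ : Type*} (S : ι → Subgroup N) (hS : ⨆ i, S i = ⊤) (F : κ → Subgroup N)
    (hgen : ∀ M : Subgroup N, M.Characteristic → M ≤ ⨆ b, M ⊓ F b)
    (hnil : ∀ i b, ∃ D : Subgroup N, ∃ c : ℕ, S i ≤ D ∧ ⁅F b, S i⁆ ≤ D ∧ D.lowerCentralSeries c = ⊥) :
    Group.IsNilpotent N := by
  refine isNilpotent_of_engel hs (⋃ i, (S i : Set N)) ?_ ?_
  · rw [← Subgroup.iSup_eq_closure, hS]
  intro t ht x
  obtain ⟨i, hti⟩ := Set.mem_iUnion.mp ht
  have hbase : ∀ b, ∀ v ∈ F b, ∃ m, engel v t m = 1 := by
    intro b v hv
    obtain ⟨D, c, hD1, hD2, hD3⟩ := hnil i b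
    refine ⟨c + 1, ?_⟩
    suffices h : ∀ n, engel v t (n + 1) ∈ D.lowerCentralSeries n by
      have h' := h c
      rwa [hD3, Subgroup.mem_bot] at h'
    intro n
    induction n with
    | zero => exact hD2 (Subgroup.commutator_mem_commutator hv hti)
    | succ n ih => exact Subgroup.commutator_mem_commutator ih (hD1 hti)
  have hlayer : ∀ j, ∀ x ∈ derivedSeries N j, ∃ m, engel x t m ∈ derivedSeries N (j + 1) := by
    intro j x hx
    have hmax : ∀ {v : N} {m m' : ℕ}, m ≤ m' → engel v t m ∈ derivedSeries N (j + 1) →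
        engel v t m' ∈ derivedSeries N (j + 1) := by
      intro v m m' h hm
      obtain ⟨k, rfl⟩ := Nat.exists_eq_add_of_le h
      rw [engel_add]
      haveI := derivedSeries_normal N (j + 1)
      exact engel_mem hm t k
    have hx' := hgen _ inferInstance hx
    suffices h : x ∈ derivedSeries N j ∧ ∃ m, engel x t m ∈ derivedSeries N (j + 1) from h.2
    clear hx
    induction hx' using Subgroup.iSup_induction' with
    | h1 => exact ⟨one_mem _, 0, one_mem _⟩
    | hp b v hv =>
      obtain ⟨m, hm⟩ := hbase b v hv.2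
      exact ⟨hv.1, m, by rw [hm]; exact one_mem _⟩
    | hmul u v _ _ hu hv =>
      obtain ⟨huj, m, hm⟩ := hu
      obtain ⟨hvj, m', hm'⟩ := hv
      refine ⟨mul_mem huj hvj, max m m', ?_⟩
      haveI := derivedSeries_normal N (j + 1)
      set π := QuotientGroup.mk' (derivedSeries N (j + 1)) with hπ
      have h1 := hmax (le_max_left m m') hm
      have h2 := hmax (le_max_right m m') hm'
      have hker : ∀ z : N, π z = 1 ↔ z ∈ derivedSeries N (j + 1) := fun z =>
        QuotientGroup.eq_one_iff z
      rw [← hker] at h1 h2 ⊢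
      rw [map_engel] at h1 h2
      haveI : ((derivedSeries N j).map π).Normal :=
        (derivedSeries_normal N j).map _ (QuotientGroup.mk'_surjective _)
      rw [map_engel, map_mul, engel_mul (H := (derivedSeries N j).map π) ?_ ⟨u, huj, rfl⟩ ⟨v, hvj, rfl⟩,
        h1, h2, one_mul]
      rintro _ ⟨a, ha, rfl⟩ _ ⟨b, hb, rfl⟩
      refine commutatorElement_eq_one_iff_mul_comm.mp ?_
      rw [← map_commutatorElement, hker]
      exact Subgroup.commutator_mem_commutator ha hb
  obtain ⟨e, he⟩ := (Group.isSolvable_def N).mp hs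
  suffices h : ∀ j, ∃ m, engel x t m ∈ derivedSeries N j by
    obtain ⟨m, hm⟩ := h e
    rw [he, Subgroup.mem_bot] at hm
    exact ⟨m, hm⟩
  intro j
  induction j with
  | zero => exact ⟨0, by rw [derivedSeries_zero]; exact Subgroup.mem_top _⟩
  | succ j ih =>
    obtain ⟨m, hm⟩ := ih
    obtain ⟨m', hm'⟩ := hlayer j _ hm
    exact ⟨m + m', by rwa [engel_add]⟩

end CfsgLib.CoprimeClass
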