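import Cfsg.Agent.CoprimeClass.Class
import Cfsg.Agent.CoprimeClass.Engel
import Cfsg.Agent.CoprimeClass.Bridge

/-!
# Special subgroups and the class bound for a term of a series

`next φ T U` is the set of subgroups `⁅S, C⁆ ⊓ Fix B` with `S ∈ T`, `C ∈ U`, `B` a hyperplane.
-/

set_option autoImplicit false
set_option linter.unusedSectionVars false

open scoped commutatorElement

namespace CfsgLib.CoprimeClass

variable {p : ℕ} {G : Type*} [Group G] {A : Type*} [Group A]

/-- The hyperplanes (subgroups of index at most `p`). -/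
abbrev Hyp (p : ℕ) (A : Type*) [Group A] : Set (Subgroup A) := {B | B.index ≤ p}

/-- The fixed points of hyperplanes. -/
def baseSpecial (p : ℕ) (φ : A →* MulAut G) : Set (Subgroup G) := Fix φ '' Hyp p A

/-- The next generation of special subgroups. -/
def nextSpecial (p : ℕ) (φ : A →* MulAut G) (T U : Set (Subgroup G)) : Set (Subgroup G) :=
  (fun x : Subgroup G × Subgroup G × Subgroup A => ⁅x.1, x.2.1⁆ ⊓ Fix φ x.2.2) '' (T ×ˢ U ×ˢ Hyp p A)

theorem mem_nextSpecial {φ : A →* MulAut G} {T U : Set (Subgroup G)} {S C : Subgroup G}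
    {B : Subgroup A} (hS : S ∈ T) (hC : C ∈ U) (hB : B.index ≤ p) :
    ⁅S, C⁆ ⊓ Fix φ B ∈ nextSpecial p φ T U :=
  ⟨(S, C, B), ⟨hS, hC, hB⟩, rfl⟩

theorem exists_of_mem_nextSpecial {φ : A →* MulAut G} {T U : Set (Subgroup G)} {Z : Subgroup G}
    (h : Z ∈ nextSpecial p φ T U) :
    ∃ S ∈ T, ∃ C ∈ U, ∃ B : Subgroup A, B.index ≤ p ∧ ⁅S, C⁆ ⊓ Fix φ B = Z := by
  obtain ⟨⟨S, C, B⟩, ⟨hS, hC, hB⟩, rfl⟩ := h
  exact ⟨S, hS, C, hC, B, hB, rfl⟩

theorem commutator_map_invariant {φ : A →* MulAut G} {S C : Subgroup G}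
    (hS : ∀ a, ∀ x ∈ S, φ a x ∈ S) (hC : ∀ a, ∀ x ∈ C, φ a x ∈ C) :
    ∀ a, ∀ x ∈ ⁅S, C⁆, φ a x ∈ ⁅S, C⁆ := by
  intro a x hx
  have h : ⁅S, C⁆.map (φ a).toMonoidHom ≤ ⁅S, C⁆ := by
    rw [Subgroup.map_commutator]
    refine Subgroup.commutator_mono ?_ ?_
    · rintro _ ⟨y, hy, rfl⟩; exact hS a y hy
    · rintro _ ⟨y, hy, rfl⟩; exact hC a y hy
  exact h ⟨x, hx, rfl⟩

/-- The sets of special subgroups in use are invariant. -/
def Invariant (φ : A →* MulAut G) (T : Set (Subgroup G)) : Prop :=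
  ∀ S ∈ T, ∀ a, ∀ x ∈ S, φ a x ∈ S

theorem invariant_base (hc : ∀ a b : A, a * b = b * a) (φ : A →* MulAut G) :
    Invariant φ (baseSpecial p φ) := by
  rintro _ ⟨B, -, rfl⟩ a x hx
  exact map_mem_Fix hc a hx

theorem invariant_next (hc : ∀ a b : A, a * b = b * a) {φ : A →* MulAut G}
    {T U : Set (Subgroup G)} (hT : Invariant φ T) (hU : Invariant φ U) :
    Invariant φ (nextSpecial p φ T U) := by
  intro Z hZ a x hx
  obtain ⟨S, hS, C, hC, B, -, rfl⟩ := exists_of_mem_nextSpecial hZ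
  exact ⟨commutator_map_invariant (hT S hS) (hU C hC) a x hx.1, map_mem_Fix hc a hx.2⟩

theorem commutator_sSup_le {T U : Set (Subgroup G)} {K : Subgroup G}
    (hT : ∀ S ∈ T, S ≤ Subgroup.normalizer (K : Set G))
    (hU : ∀ C ∈ U, C ≤ Subgroup.normalizer (K : Set G)) (h : ∀ S ∈ T, ∀ C ∈ U, ⁅S, C⁆ ≤ K) :
    ⁅sSup T, sSup U⁆ ≤ K := by
  set L := Subgroup.normalizer (K : Set G) with hL
  haveI : (K.subgroupOf L).Normal := Subgroup.normal_in_normalizer
  let f := QuotientGroup.mk' (K.subgroupOf L)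
  have hiff : ∀ x y : ↥L, Commute (f x) (f y) ↔ ⁅(x : G), (y : G)⁆ ∈ K := by
    intro x y
    rw [← commutatorElement_eq_one_iff_commute, ← map_commutatorElement]
    exact (QuotientGroup.eq_one_iff _).trans Iff.rfl
  -- the elements of `L` commuting with `c` modulo `K`
  let E : ↥L → Subgroup G := fun c => ((Subgroup.centralizer ({f c} : Set _)).comap f).map L.subtype
  have hE : ∀ (c : ↥L) (x : G), x ∈ E c ↔ ∃ hx : x ∈ L, Commute (f ⟨x, hx⟩) (f c) := by
    intro c x
    constructor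
    · rintro ⟨⟨z, hz⟩, hzc, rfl⟩
      exact ⟨hz, (Subgroup.mem_centralizer_iff.mp hzc _ (Set.mem_singleton _)).symm⟩
    · rintro ⟨hx, hcm⟩
      refine ⟨⟨x, hx⟩, Subgroup.mem_centralizer_iff.mpr ?_, rfl⟩
      rintro _ rfl
      exact hcm.symm
  have step : ∀ x ∈ sSup T, ∀ C ∈ U, ∀ c ∈ C, ⁅x, c⁆ ∈ K := by
    intro x hx C hC c hc
    have hle : sSup T ≤ E ⟨c, hU C hC hc⟩ := sSup_le fun S hS s hs =>
      (hE _ _).mpr ⟨hT S hS hs, (hiff _ _).mpr (h S hS C hC (Subgroup.commutator_mem_commutator hs hc))⟩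
    obtain ⟨hxL, hcm⟩ := (hE _ _).mp (hle hx)
    exact (hiff ⟨x, hxL⟩ _).mp hcm
  rw [Subgroup.commutator_le]
  intro x hx y hy
  have hxL : x ∈ L := sSup_le hT hx
  have hle : sSup U ≤ E ⟨x, hxL⟩ := sSup_le fun C hC c hc =>
    (hE _ _).mpr ⟨hU C hC hc, ((hiff ⟨x, hxL⟩ ⟨c, hU C hC hc⟩).mpr (step x hx C hC c hc)).symm⟩
  obtain ⟨hyL, hcm⟩ := (hE _ _).mp (hle hy)
  exact (hiff ⟨x, hxL⟩ ⟨y, hyL⟩).mp hcm.symm

variable [Finite G] [Finite A] [Fact p.Prime]

/-- The next generation generates the commutator of the groups generated. -/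
theorem sSup_nextSpecial (hc : ∀ a b : A, a * b = b * a) (hexp : ∀ a : A, a ^ p = 1)
    (hp : ¬ p ∣ Nat.card G) {φ : A →* MulAut G} {T U : Set (Subgroup G)} (hTi : Invariant φ T)
    (hUi : Invariant φ U) (hanti : ∀ Z ∈ nextSpecial p φ T U, ∃ S ∈ T, Z ≤ S)
    (hTU : ∀ S ∈ T, S ≤ sSup U) :
    sSup (nextSpecial p φ T U) = ⁅sSup T, sSup U⁆ := by
  set K := sSup (nextSpecial p φ T U) with hK
  have hgen : ∀ S ∈ T, ∀ C ∈ U, ⁅S, C⁆ ≤ K := by
    intro S hS C hC
    refine (le_iSup_inf_Fix hc hexp hp φ (commutator_map_invariant (hTi S hS) (hUi C hC))).trans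
      (iSup_le fun B => ?_)
    exact le_sSup (mem_nextSpecial hS hC B.2)
  have hnorm : ∀ C ∈ U, C ≤ Subgroup.normalizer (K : Set G) := by
    intro C hC
    have hin : ∀ c ∈ C, ∀ x ∈ K, c * x * c⁻¹ ∈ K := by
      intro c hc' x hx
      have hle : K ≤ K.comap (MulAut.conj c).toMonoidHom := by
        refine sSup_le fun Z hZ z hz => ?_
        obtain ⟨S, hS, hZS⟩ := hanti Z hZ
        show c * z * c⁻¹ ∈ K
        have h1 : ⁅z, c⁆ ∈ K := hgen S hS C hC (Subgroup.commutator_mem_commutator (hZS hz) hc')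
        have h2 : c * z * c⁻¹ = ⁅z, c⁆⁻¹ * z := by simp only [commutatorElement_def]; group
        rw [h2]
        exact K.mul_mem (K.inv_mem h1) (le_sSup hZ hz)
      exact hle hx
    intro c hc'
    rw [Subgroup.mem_normalizer_iff]
    intro x
    refine ⟨fun hx => hin c hc' x hx, fun hx => ?_⟩
    have h := hin c⁻¹ (C.inv_mem hc') _ hx
    simpa [mul_assoc] using h
  refine le_antisymm (sSup_le fun Z hZ => ?_)
    (commutator_sSup_le (fun S hS => (hTU S hS).trans (sSup_le hnorm)) hnorm hgen)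
  obtain ⟨S, hS, C, hC, B, -, rfl⟩ := exists_of_mem_nextSpecial hZ
  exact inf_le_left.trans (Subgroup.commutator_mono (le_sSup hS) (le_sSup hC))

theorem sSup_baseSpecial (hc : ∀ a b : A, a * b = b * a) (hexp : ∀ a : A, a ^ p = 1)
    (hp : ¬ p ∣ Nat.card G) (φ : A →* MulAut G) : sSup (baseSpecial p φ) = ⊤ := by
  refine top_le_iff.mp ((le_iSup_inf_Fix hc hexp hp φ (K := ⊤) fun _ _ _ => Subgroup.mem_top _).trans
    (iSup_le fun B => inf_le_right.trans (le_sSup ⟨B, B.2, rfl⟩)))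

theorem ncard_baseSpecial (φ : A →* MulAut G) :
    (baseSpecial p φ).ncard ≤ 2 ^ Nat.card A := by
  refine (Set.ncard_image_le (Set.toFinite _)).trans ((Set.ncard_le_card (Hyp p A)).trans ?_)
  classical
  haveI := Fintype.ofFinite A
  refine (Nat.card_le_card_of_injective (fun B : Subgroup A => (B : Set A))
    SetLike.coe_injective).trans ?_
  rw [Nat.card_eq_fintype_card, Fintype.card_set, Nat.card_eq_fintype_card]

theorem ncard_nextSpecial (φ : A →* MulAut G) (T U : Set (Subgroup G)) :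
    (nextSpecial p φ T U).ncard ≤ T.ncard * (U.ncard * 2 ^ Nat.card A) := by
  refine (Set.ncard_image_le (Set.toFinite _)).trans ?_
  rw [Set.ncard_prod, Set.ncard_prod]
  refine Nat.mul_le_mul_left _ (Nat.mul_le_mul_left _ ((Set.ncard_le_card (Hyp p A)).trans ?_))
  classical
  haveI := Fintype.ofFinite A
  refine (Nat.card_le_card_of_injective (fun B : Subgroup A => (B : Set A))
    SetLike.coe_injective).trans ?_
  rw [Nat.card_eq_fintype_card, Fintype.card_set, Nat.card_eq_fintype_card]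

theorem gder_add {H : Subgroup G} (r : ℕ) : ∀ s, gder H (r + s) = gder (gder H r) s
  | 0 => rfl
  | s + 1 => by
    show ⁅gder H (r + s), gder H (r + s)⁆ = _
    rw [gder_add r s]
    rfl

theorem gder_mono {H K : Subgroup G} (h : H ≤ K) : ∀ n, gder H n ≤ gder K n
  | 0 => h
  | n + 1 => Subgroup.commutator_mono (gder_mono h n) (gder_mono h n)

theorem map_gder {K : Type*} [Group K] (f : G →* K) (H : Subgroup G) :
    ∀ n, (gder H n).map f = gder (H.map f) n
  | 0 => rfl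
  | n + 1 => by
    show Subgroup.map f ⁅gder H n, gder H n⁆ = _
    rw [Subgroup.map_commutator, map_gder f H n]
    rfl

theorem gder_top (G : Type*) [Group G] : ∀ n, gder (⊤ : Subgroup G) n = derivedSeries G n
  | 0 => rfl
  | n + 1 => by
    show ⁅gder (⊤ : Subgroup G) n, gder (⊤ : Subgroup G) n⁆ = _
    rw [gder_top G n]
    rfl

theorem gder_eq_map (H : Subgroup G) (n : ℕ) :
    gder H n = (derivedSeries ↥H n).map H.subtype := by
  rw [← gder_top, map_gder, ← MonoidHom.range_eq_map, Subgroup.range_subtype]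

theorem commutator_gder_le (H : Subgroup G) (n : ℕ) : ⁅H, gder H n⁆ ≤ gder H n := by
  have h : ⁅(⊤ : Subgroup ↥H).map H.subtype, (derivedSeries ↥H n).map H.subtype⁆ ≤
      (derivedSeries ↥H n).map H.subtype := by
    rw [← Subgroup.map_commutator]
    haveI := derivedSeries_normal ↥H n
    exact Subgroup.map_mono (Subgroup.commutator_le_right _ _)
  rwa [← MonoidHom.range_eq_map, Subgroup.range_subtype, ← gder_eq_map] at h

theorem gder_le_lowerCentralSeries (H : Subgroup G) : ∀ n, gder H n ≤ H.lowerCentralSeries n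
  | 0 => le_rfl
  | n + 1 => Subgroup.commutator_mono (gder_le_lowerCentralSeries H n)
      ((gder_le_lowerCentralSeries H n).trans (H.lowerCentralSeries_le_self n))

/-- The restricted action on an invariant subgroup. -/
def restrictAct (φ : A →* MulAut G) (N : Subgroup G) (hN : ∀ a, ∀ x ∈ N, φ a x ∈ N) :
    A →* MulAut ↥N where
  toFun a :=
    { toFun := fun x => ⟨φ a x, hN a x x.2⟩
      invFun := fun x => ⟨φ a⁻¹ x, hN a⁻¹ x x.2⟩
      left_inv := fun x => Subtype.ext (by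
        show φ a⁻¹ (φ a x) = (x : G)
        rw [← MulAut.mul_apply, ← map_mul, inv_mul_cancel, map_one, MulAut.one_apply])
      right_inv := fun x => Subtype.ext (by
        show φ a (φ a⁻¹ x) = (x : G)
        rw [← MulAut.mul_apply, ← map_mul, mul_inv_cancel, map_one, MulAut.one_apply])
      map_mul' := fun x y => Subtype.ext (map_mul (φ a) (x : G) y) }
  map_one' := MulEquiv.ext fun x => Subtype.ext (by
    show φ 1 x = (x : G)
    rw [map_one]; rfl)
  map_mul' a b := MulEquiv.ext fun x => Subtype.ext (by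
    show φ (a * b) x = φ a (φ b x)
    rw [map_mul]; rfl)

theorem Fix_restrict (φ : A →* MulAut G) (N : Subgroup G) (hN : ∀ a, ∀ x ∈ N, φ a x ∈ N)
    (B : Subgroup A) : (Fix (restrictAct φ N hN) B).map N.subtype = N ⊓ Fix φ B := by
  ext x
  constructor
  · rintro ⟨y, hy, rfl⟩
    exact ⟨y.2, fun b hb => congrArg Subtype.val (hy b hb)⟩
  · rintro ⟨hx, hxB⟩
    exact ⟨⟨x, hx⟩, fun b hb => Subtype.ext (hxB b hb), rfl⟩

/-- The class bound for a subgroup generated by special subgroups. -/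
theorem lowerCentralSeries_eq_bot_of_specials (hc : ∀ a b : A, a * b = b * a)
    (hexp : ∀ a : A, a ^ p = 1) (hp : ¬ p ∣ Nat.card G) (φ : A →* MulAut G) (N : Subgroup G)
    (hNsol : Group.IsSolvable ↥N) (T : Set (Subgroup G)) (hTi : Invariant φ T) (hTN : sSup T = N)
    (hclosed : ∀ S ∈ T, ∀ S' ∈ T, ∀ B : Subgroup A, B.index ≤ p →
      ∃ Z ∈ T, ⁅S, S'⁆ ⊓ Fix φ B ≤ Z)
    {c n₀ : ℕ} (hnil : ∀ S ∈ T, ∀ B : Subgroup A, B.index ≤ p → ∃ D : Subgroup G,
      S ≤ D ∧ ⁅Fix φ B, S⁆ ≤ D ∧ D.lowerCentralSeries c = ⊥)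
    (hfix : gder (N ⊓ Fix φ ⊤) n₀ = ⊥) {k t : ℕ} (hA : Nat.card A = p ^ k)
    (ht : T.ncard * p ^ p ^ k ≤ t) :
    N.lowerCentralSeries (chainBound p t (c + 1) n₀ k) = ⊥ := by
  have hNinv : ∀ a, ∀ x ∈ N, φ a x ∈ N := by
    intro a x hx
    have hle : N ≤ N.comap (φ a).toMonoidHom := by
      conv_lhs => rw [← hTN]
      exact sSup_le fun S hS s hs => hTN ▸ le_sSup hS (hTi S hS a s hs)
    exact hle hx
  set ψ := restrictAct φ N hNinv with hψ
  have hpN : ¬ p ∣ Nat.card ↥N := fun h => hp (h.trans N.card_subgroup_dvd_card)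
  have hlift := lifts_of_coprime hc hexp hpN ψ
  let S : ↥T → Subgroup ↥N := fun i => (i : Subgroup G).subgroupOf N
  have hmap : ∀ i : ↥T, (S i).map N.subtype = i := fun i =>
    Subgroup.map_subgroupOf_eq_of_le (hTN ▸ le_sSup i.2)
  have hnilN : ∀ (i : ↥T) (B : Subgroup A), B.index ≤ p → ∃ D : Subgroup ↥N,
      S i ≤ D ∧ ⁅Fix ψ B, S i⁆ ≤ D ∧ D.lowerCentralSeries c = ⊥ := by
    intro i B hB
    obtain ⟨D, hD1, hD2, hD3⟩ := hnil i i.2 B hB
    refine ⟨D.subgroupOf N, Subgroup.comap_mono hD1, ?_, ?_⟩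
    · rw [Subgroup.subgroupOf, ← Subgroup.map_le_iff_le_comap, Subgroup.map_commutator, hmap,
        Fix_restrict]
      exact (Subgroup.commutator_mono inf_le_right le_rfl).trans hD2
    · rw [← Subgroup.map_eq_bot_iff_of_injective _ N.subtype_injective,
        Subgroup.map_lowerCentralSeries, eq_bot_iff, ← hD3]
      exact Subgroup.lowerCentralSeries_mono c (Subgroup.map_comap_le N.subtype D)
  have hsup : ⨆ i, S i = ⊤ := by
    apply Subgroup.map_injective N.subtype_injective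
    rw [Subgroup.map_iSup, ← MonoidHom.range_eq_map, Subgroup.range_subtype]
    simp only [hmap]
    rw [← sSup_eq_iSup', hTN]
  haveI := Fintype.ofFinite ↥T
  have hS : IsSpecialFamily p c n₀ ψ S := by
    refine ⟨fun i a x hx => hTi i i.2 a x hx, hsup, ?_, hnilN, ?_⟩
    · intro i j B hB
      obtain ⟨Z, hZ, hle⟩ := hclosed i i.2 j j.2 B hB
      refine ⟨⟨Z, hZ⟩, ?_⟩
      rw [← Subgroup.map_le_map_iff_of_injective N.subtype_injective, hmap ⟨Z, hZ⟩,
        Subgroup.map_inf _ _ _ N.subtype_injective, Subgroup.map_commutator, hmap i, hmap j,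
        Fix_restrict]
      exact (inf_le_inf_left _ inf_le_right).trans hle
    · rw [← Subgroup.map_eq_bot_iff_of_injective _ N.subtype_injective, map_gder, Fix_restrict,
        hfix]
  have hnilpotent : Group.IsNilpotent ↥N := by
    refine isNilpotent_of_generation hNsol S hsup
      (fun B : {B : Subgroup A // B.index ≤ p} => Fix ψ (B : Subgroup A)) ?_ ?_
    · intro M hM
      refine le_iSup_inf_Fix hc hexp hpN ψ fun a x hx => ?_
      have h := (Subgroup.characteristic_iff_map_le.mp hM) (ψ a)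
      exact h ⟨x, hx, rfl⟩
    · intro i B
      obtain ⟨D, h1, h2, h3⟩ := hnilN i B B.2
      exact ⟨D, c, h1, h2, h3⟩
  have hcard : Fintype.card ↥T * p ^ p ^ k ≤ t := by
    rwa [← Nat.card_eq_fintype_card, Nat.card_coe_set_eq]
  have h := lowerCentralSeries_eq_bot_of_family hc hexp hpN hlift hS hA hcard hnilpotent
  rw [← Subgroup.top_subtype_lowerCentralSeries, h, Subgroup.map_bot]

end CfsgLib.CoprimeClass
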