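import Cfsg.Agent.CoprimeClass.Family

/-!
# Bounded class of `G^(d)` and of `γ_{j+1} G` from the fixed points

`A` elementary abelian of order `p ^ k` acts coprimely on `G`.

* `lowerCentralSeries_class_bound`: `j + 3 ≤ k` and every `γ_{j+1}(C(a))` of class at most `c`.
* `derived_class_bound`: `2 ^ d + 2 ≤ k` and every `C(a)^(d)` of class at most `c`.
-/

set_option autoImplicit false
set_option linter.unusedSectionVars false

open scoped commutatorElement

namespace CfsgLib.CoprimeClass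

variable {p : ℕ} {G : Type*} [Group G] {A : Type*} [Group A]

/-- Special subgroups for the lower central series. -/
def lcsSpecial (p : ℕ) (φ : A →* MulAut G) : ℕ → Set (Subgroup G)
  | 0 => baseSpecial p φ
  | j + 1 => nextSpecial p φ (lcsSpecial p φ j) (baseSpecial p φ)

/-- Special subgroups for the derived series. -/
def derSpecial (p : ℕ) (φ : A →* MulAut G) : ℕ → Set (Subgroup G)
  | 0 => baseSpecial p φ
  | j + 1 => nextSpecial p φ (derSpecial p φ j) (derSpecial p φ j)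

/-- Bound on the number of special subgroups (lower central series). -/
def lcsCount (h : ℕ) : ℕ → ℕ
  | 0 => h
  | j + 1 => lcsCount h j * (h * h)

/-- Bound on the number of special subgroups (derived series). -/
def derCount (h : ℕ) : ℕ → ℕ
  | 0 => h
  | j + 1 => derCount h j * (derCount h j * h)

theorem Fix_antitone (φ : A →* MulAut G) {B B' : Subgroup A} (h : B ≤ B') : Fix φ B' ≤ Fix φ B :=
  fun _ hx b hb => hx b (h hb)

theorem index_inf_le_pow {B B' : Subgroup A} {m n : ℕ} (hB : B.index ≤ p ^ m)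
    (hB' : B'.index ≤ p ^ n) : (B ⊓ B').index ≤ p ^ (m + n) :=
  (Subgroup.index_inf_le).trans (by rw [pow_add]; exact Nat.mul_le_mul hB hB')

theorem invariant_lcsSpecial (hc : ∀ a b : A, a * b = b * a) (φ : A →* MulAut G) :
    ∀ j, Invariant φ (lcsSpecial p φ j)
  | 0 => invariant_base hc φ
  | j + 1 => invariant_next hc (invariant_lcsSpecial hc φ j) (invariant_base hc φ)

theorem invariant_derSpecial (hc : ∀ a b : A, a * b = b * a) (φ : A →* MulAut G) :
    ∀ j, Invariant φ (derSpecial p φ j)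
  | 0 => invariant_base hc φ
  | j + 1 => invariant_next hc (invariant_derSpecial hc φ j) (invariant_derSpecial hc φ j)

theorem exists_Fix_of_mem_lcsSpecial {φ : A →* MulAut G} : ∀ (j : ℕ), ∀ S ∈ lcsSpecial p φ j,
    ∃ B : Subgroup A, B.index ≤ p ∧ S ≤ Fix φ B
  | 0 => by
    rintro _ ⟨B, hB, rfl⟩
    exact ⟨B, hB, le_rfl⟩
  | j + 1 => by
    intro Z hZ
    obtain ⟨S, -, C, -, B, hB, rfl⟩ := exists_of_mem_nextSpecial hZ
    exact ⟨B, hB, inf_le_right⟩

theorem lcsSpecial_anti {φ : A →* MulAut G} : ∀ (j : ℕ), ∀ Z ∈ lcsSpecial p φ (j + 1),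
    ∃ S ∈ lcsSpecial p φ j, Z ≤ S := by
  intro j
  induction j with
  | zero =>
    intro Z hZ
    obtain ⟨S, -, C, -, B, hB, rfl⟩ := exists_of_mem_nextSpecial hZ
    exact ⟨Fix φ B, ⟨B, hB, rfl⟩, inf_le_right⟩
  | succ j ih =>
    intro Z hZ
    obtain ⟨S, hS, C, hC, B, hB, rfl⟩ := exists_of_mem_nextSpecial hZ
    obtain ⟨S', hS', hle⟩ := ih S hS
    exact ⟨_, mem_nextSpecial hS' hC hB, inf_le_inf_right _ (Subgroup.commutator_mono hle le_rfl)⟩

theorem derSpecial_anti {φ : A →* MulAut G} : ∀ (j : ℕ), ∀ Z ∈ derSpecial p φ (j + 1),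
    ∃ S ∈ derSpecial p φ j, Z ≤ S := by
  intro j
  induction j with
  | zero =>
    intro Z hZ
    obtain ⟨S, -, C, -, B, hB, rfl⟩ := exists_of_mem_nextSpecial hZ
    exact ⟨Fix φ B, ⟨B, hB, rfl⟩, inf_le_right⟩
  | succ j ih =>
    intro Z hZ
    obtain ⟨S, hS, C, hC, B, hB, rfl⟩ := exists_of_mem_nextSpecial hZ
    obtain ⟨S', hS', hle⟩ := ih S hS
    obtain ⟨C', hC', hle'⟩ := ih C hC
    exact ⟨_, mem_nextSpecial hS' hC' hB, inf_le_inf_right _ (Subgroup.commutator_mono hle hle')⟩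

theorem le_lcs_Fix {φ : A →* MulAut G} : ∀ (j : ℕ), ∀ S ∈ lcsSpecial p φ j,
    ∃ B₀ : Subgroup A, B₀.index ≤ p ^ (j + 1) ∧ S ≤ (Fix φ B₀).lowerCentralSeries j := by
  intro j
  induction j with
  | zero =>
    rintro _ ⟨B, hB, rfl⟩
    exact ⟨B, by rw [zero_add, pow_one]; exact hB, le_rfl⟩
  | succ j ih =>
    intro Z hZ
    obtain ⟨S, hS, C, hC, B, -, rfl⟩ := exists_of_mem_nextSpecial hZ
    obtain ⟨B₁, hB₁, hSB⟩ := ih S hS
    obtain ⟨B', hB', rfl⟩ := hC
    refine ⟨B₁ ⊓ B', index_inf_le_pow hB₁ (by rwa [pow_one]), inf_le_left.trans ?_⟩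
    exact Subgroup.commutator_mono
      (hSB.trans (Subgroup.lowerCentralSeries_mono j (Fix_antitone φ inf_le_left)))
      (Fix_antitone φ inf_le_right)

variable [Finite G] [Finite A] [Fact p.Prime]

theorem le_gder_Fix {φ : A →* MulAut G} : ∀ (j : ℕ), ∀ S ∈ derSpecial p φ j,
    ∃ B₀ : Subgroup A, B₀.index ≤ p ^ 2 ^ j ∧ S ≤ gder (Fix φ B₀) j := by
  intro j
  induction j with
  | zero =>
    rintro _ ⟨B, hB, rfl⟩
    exact ⟨B, by rw [pow_zero, pow_one]; exact hB, le_rfl⟩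
  | succ j ih =>
    intro Z hZ
    obtain ⟨S, hS, C, hC, B, -, rfl⟩ := exists_of_mem_nextSpecial hZ
    obtain ⟨B₁, hB₁, hS1⟩ := ih S hS
    obtain ⟨B₂, hB₂, hC2⟩ := ih C hC
    refine ⟨B₁ ⊓ B₂, ?_, inf_le_left.trans ?_⟩
    · rw [pow_succ, mul_two]
      exact index_inf_le_pow hB₁ hB₂
    · exact Subgroup.commutator_mono (hS1.trans (gder_mono (Fix_antitone φ inf_le_left) j))
        (hC2.trans (gder_mono (Fix_antitone φ inf_le_right) j))

theorem sSup_lcsSpecial (hc : ∀ a b : A, a * b = b * a) (hexp : ∀ a : A, a ^ p = 1)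
    (hp : ¬ p ∣ Nat.card G) (φ : A →* MulAut G) :
    ∀ j, sSup (lcsSpecial p φ j) = (⊤ : Subgroup G).lowerCentralSeries j
  | 0 => sSup_baseSpecial hc hexp hp φ
  | j + 1 => by
    show sSup (nextSpecial p φ (lcsSpecial p φ j) (baseSpecial p φ)) = _
    rw [sSup_nextSpecial hc hexp hp (invariant_lcsSpecial hc φ j) (invariant_base hc φ)
      (lcsSpecial_anti j) (fun S _ => by rw [sSup_baseSpecial hc hexp hp φ]; exact le_top),
      sSup_lcsSpecial hc hexp hp φ j, sSup_baseSpecial hc hexp hp φ]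
    rfl

theorem sSup_derSpecial (hc : ∀ a b : A, a * b = b * a) (hexp : ∀ a : A, a ^ p = 1)
    (hp : ¬ p ∣ Nat.card G) (φ : A →* MulAut G) :
    ∀ j, sSup (derSpecial p φ j) = derivedSeries G j
  | 0 => sSup_baseSpecial hc hexp hp φ
  | j + 1 => by
    show sSup (nextSpecial p φ (derSpecial p φ j) (derSpecial p φ j)) = _
    rw [sSup_nextSpecial hc hexp hp (invariant_derSpecial hc φ j) (invariant_derSpecial hc φ j)
      (derSpecial_anti j) (fun S hS => le_sSup hS), sSup_derSpecial hc hexp hp φ j]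
    rfl

theorem ncard_lcsSpecial (φ : A →* MulAut G) :
    ∀ j, (lcsSpecial p φ j).ncard ≤ lcsCount (2 ^ Nat.card A) j
  | 0 => ncard_baseSpecial φ
  | j + 1 => (ncard_nextSpecial φ _ _).trans
      (Nat.mul_le_mul (ncard_lcsSpecial φ j) (Nat.mul_le_mul_right _ (ncard_baseSpecial φ)))

theorem ncard_derSpecial (φ : A →* MulAut G) :
    ∀ j, (derSpecial p φ j).ncard ≤ derCount (2 ^ Nat.card A) j
  | 0 => ncard_baseSpecial φ
  | j + 1 => (ncard_nextSpecial φ _ _).trans
      (Nat.mul_le_mul (ncard_derSpecial φ j) (Nat.mul_le_mul_right _ (ncard_derSpecial φ j)))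

theorem exists_ne_one_mem {k m : ℕ} (hA : Nat.card A = p ^ k) (hm : m < k) {B : Subgroup A}
    (hB : B.index ≤ p ^ m) : ∃ a ∈ B, a ≠ 1 := by
  by_contra h
  push Not at h
  rw [(Subgroup.eq_bot_iff_forall B).mpr h, Subgroup.index_bot, hA] at hB
  exact absurd hB (Nat.not_le.mpr (Nat.pow_lt_pow_right (Fact.out : p.Prime).one_lt hm))

theorem isSolvable_of_gder {H : Subgroup G} {n : ℕ} (h : gder H n = ⊥) : Group.IsSolvable ↥H := by
  rw [gder_eq_map, Subgroup.map_eq_bot_iff_of_injective _ H.subtype_injective] at h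
  exact (Group.isSolvable_def _).mpr ⟨n, h⟩

/-- **Lower central series.** -/
theorem lowerCentralSeries_class_bound (hc : ∀ a b : A, a * b = b * a) (hexp : ∀ a : A, a ^ p = 1)
    (hp : ¬ p ∣ Nat.card G) (φ : A →* MulAut G) {j k c : ℕ} (hA : Nat.card A = p ^ k)
    (hk : j + 3 ≤ k)
    (hfix : ∀ a : A, a ≠ 1 →
      ((Fix φ (Subgroup.zpowers a)).lowerCentralSeries j).lowerCentralSeries c = ⊥) :
    ((⊤ : Subgroup G).lowerCentralSeries j).lowerCentralSeries
      (chainBound p (lcsCount (2 ^ p ^ k) j * p ^ p ^ k) (c + 1) (j + c) k) = ⊥ := by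
  have hder : ∀ a : A, a ≠ 1 → gder (Fix φ (Subgroup.zpowers a)) (j + c) = ⊥ := by
    intro a ha
    rw [gder_add, eq_bot_iff, ← hfix a ha]
    exact (gder_mono (gder_le_lowerCentralSeries _ j) c).trans (gder_le_lowerCentralSeries _ c)
  have hsol : Group.IsSolvable G := by
    refine isSolvable_of_Fix hc hexp hp ?_ φ fun a ha => isSolvable_of_gder (hder a ha)
    rw [hA]
    exact Nat.pow_le_pow_right (Fact.out : p.Prime).pos (by omega)
  haveI := hsol
  refine lowerCentralSeries_eq_bot_of_specials hc hexp hp φ _ inferInstance (lcsSpecial p φ j)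
    (invariant_lcsSpecial hc φ j) (sSup_lcsSpecial hc hexp hp φ j) ?_ ?_ ?_ hA
    (Nat.mul_le_mul_right _ (hA ▸ ncard_lcsSpecial φ j))
  · intro S hS S' hS' B hB
    obtain ⟨B', hB', hle⟩ := exists_Fix_of_mem_lcsSpecial j S' hS'
    obtain ⟨Z, hZ, hle'⟩ := lcsSpecial_anti j _
      (mem_nextSpecial (φ := φ) (U := baseSpecial p φ) hS ⟨B', hB', rfl⟩ hB)
    exact ⟨Z, hZ, (inf_le_inf_right _ (Subgroup.commutator_mono le_rfl hle)).trans hle'⟩
  · intro S hS B hB
    obtain ⟨B₀, hB₀, hSB⟩ := le_lcs_Fix j S hS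
    obtain ⟨a, ha, ha1⟩ := exists_ne_one_mem hA (show j + 2 < k by omega)
      (index_inf_le_pow (m := j + 1) (n := 1) hB₀ (by rwa [pow_one] : B.index ≤ p ^ 1))
    have h0 : Subgroup.zpowers a ≤ B₀ := Subgroup.zpowers_le.mpr ha.1
    have h1 : Subgroup.zpowers a ≤ B := Subgroup.zpowers_le.mpr ha.2
    refine ⟨(Fix φ (Subgroup.zpowers a)).lowerCentralSeries j,
      hSB.trans (Subgroup.lowerCentralSeries_mono j (Fix_antitone φ h0)), ?_, hfix a ha1⟩
    rw [Subgroup.commutator_comm]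
    exact (Subgroup.commutator_mono (hSB.trans (Subgroup.lowerCentralSeries_mono j (Fix_antitone φ h0)))
      (Fix_antitone φ h1)).trans (Subgroup.lowerCentralSeries_antitone _ (Nat.le_succ j))
  · obtain ⟨a, -, ha1⟩ := exists_ne_one_mem hA (show 0 < k by omega)
      (B := (⊤ : Subgroup A)) (by rw [Subgroup.index_top, pow_zero])
    rw [eq_bot_iff, ← hder a ha1]
    exact gder_mono (inf_le_right.trans (Fix_antitone φ le_top)) _

/-- **Derived series.** -/
theorem derived_class_bound (hc : ∀ a b : A, a * b = b * a) (hexp : ∀ a : A, a ^ p = 1)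
    (hp : ¬ p ∣ Nat.card G) (φ : A →* MulAut G) {d k c : ℕ} (hA : Nat.card A = p ^ k)
    (hk3 : 3 ≤ k) (hk : 2 ^ d + 2 ≤ k)
    (hfix : ∀ a : A, a ≠ 1 → (gder (Fix φ (Subgroup.zpowers a)) d).lowerCentralSeries c = ⊥) :
    (derivedSeries G d).lowerCentralSeries
      (chainBound p (derCount (2 ^ p ^ k) d * p ^ p ^ k) (c + 1) (d + c) k) = ⊥ := by
  have hder : ∀ a : A, a ≠ 1 → gder (Fix φ (Subgroup.zpowers a)) (d + c) = ⊥ := by
    intro a ha
    rw [gder_add, eq_bot_iff, ← hfix a ha]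
    exact gder_le_lowerCentralSeries _ c
  have hsol : Group.IsSolvable G := by
    refine isSolvable_of_Fix hc hexp hp ?_ φ fun a ha => isSolvable_of_gder (hder a ha)
    rw [hA]
    exact Nat.pow_le_pow_right (Fact.out : p.Prime).pos hk3
  haveI := hsol
  refine lowerCentralSeries_eq_bot_of_specials hc hexp hp φ _ inferInstance (derSpecial p φ d)
    (invariant_derSpecial hc φ d) (sSup_derSpecial hc hexp hp φ d) ?_ ?_ ?_ hA
    (Nat.mul_le_mul_right _ (hA ▸ ncard_derSpecial φ d))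
  · intro S hS S' hS' B hB
    exact derSpecial_anti d _ (mem_nextSpecial (φ := φ) hS hS' hB)
  · intro S hS B hB
    obtain ⟨B₀, hB₀, hSB⟩ := le_gder_Fix d S hS
    obtain ⟨a, ha, ha1⟩ := exists_ne_one_mem hA (show 2 ^ d + 1 < k by omega)
      (index_inf_le_pow (m := 2 ^ d) (n := 1) hB₀ (by rwa [pow_one] : B.index ≤ p ^ 1))
    have h0 : Subgroup.zpowers a ≤ B₀ := Subgroup.zpowers_le.mpr ha.1
    have h1 : Subgroup.zpowers a ≤ B := Subgroup.zpowers_le.mpr ha.2
    refine ⟨gder (Fix φ (Subgroup.zpowers a)) d, hSB.trans (gder_mono (Fix_antitone φ h0) d), ?_,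
      hfix a ha1⟩
    exact (Subgroup.commutator_mono (Fix_antitone φ h1)
      (hSB.trans (gder_mono (Fix_antitone φ h0) d))).trans (commutator_gder_le _ d)
  · obtain ⟨a, -, ha1⟩ := exists_ne_one_mem hA (show 0 < k by omega)
      (B := (⊤ : Subgroup A)) (by rw [Subgroup.index_top, pow_zero])
    rw [eq_bot_iff, ← hder a ha1]
    exact gder_mono (inf_le_right.trans (Fix_antitone φ le_top)) _

end CfsgLib.CoprimeClass
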